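import Mathlib

/-!
# Arithmetic modulo `2^n - 1` for THEOREM B3

`N = 2^n - 1`; everything happens in `ZMod N`. `2 b = a`, so the weights of the text are
`(0,1), (2b,-1), (b,0), ((1-2^j) b, 2^j), ((1+2^j) b, -2^j)` and the Sylow group of `E'` has the weight `(-b, 1)`.
-/

set_option autoImplicit false
set_option linter.unusedSectionVars false

namespace Cfsg.Agent.Omega.NO3S.B3

section tools

variable {N n : ℕ} (hN : N + 1 = 2 ^ n) (hn : 2 ≤ n)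

theorem natCast_inj {x y : ℕ} (hx : x < N) (hy : y < N) (h : (x : ZMod N) = (y : ZMod N)) : x = y := by
  rw [ZMod.natCast_eq_natCast_iff', Nat.mod_eq_of_lt hx, Nat.mod_eq_of_lt hy] at h
  exact h

include hN

theorem two_pow_n : (2 : ZMod N) ^ n = 1 := by
  have h1 : ((N + 1 : ℕ) : ZMod N) = ((2 ^ n : ℕ) : ZMod N) := by rw [hN]
  rw [Nat.cast_add, ZMod.natCast_self, zero_add, Nat.cast_one, Nat.cast_pow] at h1
  exact_mod_cast h1.symm

theorem two_pow_mod (k : ℕ) : (2 : ZMod N) ^ k = 2 ^ (k % n) := by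
  conv_lhs => rw [← Nat.div_add_mod k n, pow_add, pow_mul, two_pow_n hN, one_pow, one_mul]

include hn

theorem exists_half (k : ℕ) : ∃ H : ℕ, 2 * H = N + 1 ∧ 2 ≤ H ∧ 2 ^ (k % n) ≤ H ∧ 1 ≤ 2 ^ (k % n) := by
  refine ⟨2 ^ (n - 1), ?_, ?_, ?_, Nat.one_le_two_pow⟩
  · rw [hN, ← pow_succ', Nat.sub_add_cancel (by omega)]
  · calc 2 = 2 ^ 1 := rfl
      _ ≤ 2 ^ (n - 1) := Nat.pow_le_pow_right (by norm_num) (by omega)
  · exact Nat.pow_le_pow_right (by norm_num) (by have := Nat.mod_lt k (show 0 < n by omega); omega)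

theorem two_pow_inj {a b : ℕ} (h : (2 : ZMod N) ^ a = 2 ^ b) : a % n = b % n := by
  obtain ⟨H, h1, h2, h3, -⟩ := exists_half hN hn a
  obtain ⟨H', h1', h2', h3', -⟩ := exists_half hN hn b
  rw [two_pow_mod hN a, two_pow_mod hN b] at h
  have h4 : ((2 ^ (a % n) : ℕ) : ZMod N) = ((2 ^ (b % n) : ℕ) : ZMod N) := by push_cast; exact h
  have h5 := natCast_inj (by omega) (by omega) h4
  exact Nat.pow_right_injective (le_refl 2) h5

theorem one_ne_zero' : (1 : ZMod N) ≠ 0 := by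
  obtain ⟨H, h1, h2, h3, -⟩ := exists_half hN hn 0
  intro h
  have h4 : ((1 : ℕ) : ZMod N) = ((0 : ℕ) : ZMod N) := by push_cast; exact h
  have := natCast_inj (by omega) (by omega) h4
  omega

theorem two_pow_ne_zero (k : ℕ) : (2 : ZMod N) ^ k ≠ 0 := by
  obtain ⟨H, h1, h2, h3, h4⟩ := exists_half hN hn k
  rw [two_pow_mod hN k]
  intro h
  have h5 : ((2 ^ (k % n) : ℕ) : ZMod N) = ((0 : ℕ) : ZMod N) := by push_cast; exact h
  have := natCast_inj (by omega) (by omega) h5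
  omega

theorem exists_inv (k : ℕ) : ∃ l : ℕ, (2 : ZMod N) ^ l * 2 ^ k = 1 := by
  refine ⟨(n - 1) * k, ?_⟩
  rw [← pow_add]
  have e : (n - 1) * k + k = n * k := by
    obtain ⟨m, rfl⟩ : ∃ m, n = m + 1 := ⟨n - 1, by omega⟩
    rw [Nat.add_sub_cancel]; ring
  rw [e, pow_mul, two_pow_n hN, one_pow]

theorem mul_left_cancel_two {k : ℕ} {x y : ZMod N} (h : 2 ^ k * x = 2 ^ k * y) : x = y := by
  obtain ⟨l, hl⟩ := exists_inv hN hn k
  calc x = 2 ^ l * (2 ^ k * x) := by rw [← mul_assoc, hl, one_mul]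
    _ = 2 ^ l * (2 ^ k * y) := by rw [h]
    _ = y := by rw [← mul_assoc, hl, one_mul]

theorem one_add_two_pow {j m : ℕ} (h : (1 : ZMod N) + 2 ^ j = 2 ^ m) : j % n = 0 ∧ m % n = 1 := by
  obtain ⟨H, h1, h2, h3, h4⟩ := exists_half hN hn j
  obtain ⟨H', h1', h2', h3', h4'⟩ := exists_half hN hn m
  rw [two_pow_mod hN j, two_pow_mod hN m] at h
  have h5 : ((1 + 2 ^ (j % n) : ℕ) : ZMod N) = ((2 ^ (m % n) : ℕ) : ZMod N) := by push_cast; exact h
  rcases Nat.lt_or_ge H 3 with h6 | h6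
  · -- `n = 2`
    have hH : H = 2 := by omega
    have hn2 : n = 2 := by
      have h7 : 2 ^ n = 2 ^ 2 := by omega
      exact Nat.pow_right_injective (le_refl 2) h7
    have hN3 : N = 3 := by omega
    subst hn2
    have hj := Nat.mod_two_eq_zero_or_one j
    have hm := Nat.mod_two_eq_zero_or_one m
    rw [hN3] at h5
    rcases hj with hj | hj <;> rcases hm with hm | hm <;> rw [hj, hm] at h5
    · exact absurd h5 (by decide)
    · exact ⟨hj, hm⟩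
    · exact absurd h5 (by decide)
    · exact absurd h5 (by decide)
  · have h7 := natCast_inj (by omega) (by omega) h5
    have h8 : m % n ≠ 0 := by
      intro h8
      rw [h8] at h7
      omega
    have h9 : j % n = 0 := by
      by_contra h9
      obtain ⟨a, ha⟩ := Nat.exists_eq_succ_of_ne_zero h8
      obtain ⟨c, hc⟩ := Nat.exists_eq_succ_of_ne_zero h9
      rw [ha, hc, Nat.succ_eq_add_one, Nat.succ_eq_add_one, pow_succ, pow_succ] at h7
      omega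
    refine ⟨h9, ?_⟩
    rw [h9, pow_zero] at h7
    have h10 : 2 ^ 1 = 2 ^ (m % n) := by omega
    exact (Nat.pow_right_injective (le_refl 2) h10).symm

theorem two_pow_add {a b : ℕ} (h : (2 : ZMod N) ^ a + 2 ^ b = 1) : a % n + 1 = n ∧ b % n + 1 = n := by
  have hH : ∀ k : ℕ, 2 ^ (k % n) ≤ 2 ^ (n - 1) := fun k =>
    Nat.pow_le_pow_right (by norm_num) (by have := Nat.mod_lt k (show 0 < n by omega); omega)
  have h0 : 2 * 2 ^ (n - 1) = N + 1 := by rw [hN, ← pow_succ', Nat.sub_add_cancel (by omega)]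
  have ha := hH a
  have hb := hH b
  have ha1 : 1 ≤ 2 ^ (a % n) := Nat.one_le_two_pow
  have hb1 : 1 ≤ 2 ^ (b % n) := Nat.one_le_two_pow
  rw [two_pow_mod hN a, two_pow_mod hN b] at h
  have h5 : ((2 ^ (a % n) + 2 ^ (b % n) : ℕ) : ZMod N) = ((1 : ℕ) : ZMod N) := by push_cast; exact h
  rw [ZMod.natCast_eq_natCast_iff] at h5
  have h6 : N ∣ 2 ^ (a % n) + 2 ^ (b % n) - 1 := (Nat.modEq_iff_dvd' (by omega)).1 h5.symm
  have h7 := Nat.le_of_dvd (by omega) h6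
  have h8 : 2 ^ (a % n) = 2 ^ (n - 1) := by omega
  have h9 : 2 ^ (b % n) = 2 ^ (n - 1) := by omega
  have h10 : a % n = n - 1 := Nat.pow_right_injective (le_refl 2) h8
  have h11 : b % n = n - 1 := Nat.pow_right_injective (le_refl 2) h9
  omega

theorem two_pow_ne_neg_one (h3 : 3 ≤ n) (k : ℕ) : (2 : ZMod N) ^ k ≠ -1 := by
  intro h
  have h0 : 2 * 2 ^ (n - 1) = N + 1 := by rw [hN, ← pow_succ', Nat.sub_add_cancel (by omega)]
  have h1 : 2 ^ (k % n) ≤ 2 ^ (n - 1) :=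
    Nat.pow_le_pow_right (by norm_num) (by have := Nat.mod_lt k (show 0 < n by omega); omega)
  have h2 : 4 ≤ 2 ^ (n - 1) := by
    calc 4 = 2 ^ 2 := rfl
      _ ≤ 2 ^ (n - 1) := Nat.pow_le_pow_right (by norm_num) (by omega)
  rw [two_pow_mod hN k] at h
  have h5 : ((2 ^ (k % n) + 1 : ℕ) : ZMod N) = ((0 : ℕ) : ZMod N) := by
    push_cast; rw [h]; ring
  have h6 : 2 ^ (k % n) + 1 = 0 := natCast_inj (by omega) (by omega) h5
  exact Nat.succ_ne_zero _ h6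

/-- `2^(2k) = 2` implies `n = 2m + 1` and `k = m + 1` modulo `n`. -/
theorem odd_of {k : ℕ} (h : (2 : ZMod N) ^ (2 * k) = 2) : ∃ m, n = 2 * m + 1 ∧ k % n = m + 1 := by
  have h1 : (2 * k) % n = 1 % n := two_pow_inj hN hn (by rw [h, pow_one])
  rw [Nat.mod_eq_of_lt (show 1 < n by omega)] at h1
  have h2 := Nat.div_add_mod (2 * k) n
  rw [h1] at h2
  set c := 2 * k / n with hc
  have h3 : n % 2 = 1 := by
    by_contra h3
    have h4 : n % 2 = 0 := by omega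
    obtain ⟨d, rfl⟩ : ∃ d, n = 2 * d := ⟨n / 2, by omega⟩
    have : 2 * (d * c) + 1 = 2 * k := by rw [← h2]; ring
    omega
  obtain ⟨m, hm⟩ : ∃ m, n = 2 * m + 1 := ⟨n / 2, by omega⟩
  refine ⟨m, hm, ?_⟩
  have h5 : c % 2 = 1 := by
    by_contra h5
    obtain ⟨d, hd⟩ : ∃ d, c = 2 * d := ⟨c / 2, by omega⟩
    rw [hd] at h2
    have : 2 * (n * d) + 1 = 2 * k := by rw [← h2]; ring
    omega
  obtain ⟨d, hd⟩ : ∃ d, c = 2 * d + 1 := ⟨c / 2, by omega⟩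
  have h6 : k = n * d + (m + 1) := by
    have h7 : 2 * k = 2 * (n * d + (m + 1)) := by
      rw [← h2, hd, hm]; ring
    omega
  rw [h6, Nat.mul_add_mod, Nat.mod_eq_of_lt (by omega)]

end tools

section match5

variable {N n : ℕ} (hN : N + 1 = 2 ^ n) (hn : 2 ≤ n)

include hN hn

/-- the classes of `(-b, 1)` and `(-1, 2b)` -/
theorem match_one {b : ZMod N} {k : ℕ} (h1 : (-1 : ZMod N) = 2 ^ k * (-b)) (h2 : 2 * b = 2 ^ k * 1) :
    ∃ m, n = 2 * m + 1 ∧ b = 2 ^ m := by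
  have h3 : 2 ^ k * b = 1 := by linear_combination h1
  have h4 : (2 : ZMod N) ^ (2 * k) = 2 := by
    rw [two_mul, pow_add]
    linear_combination (-2 ^ k) * h2 + 2 * h3
  obtain ⟨m, hm, hk⟩ := odd_of hN hn h4
  refine ⟨m, hm, ?_⟩
  have h5 : (2 : ZMod N) ^ k * 2 ^ m = 1 := by
    rw [two_pow_mod hN k, hk, ← pow_add, show m + 1 + m = n by omega, two_pow_n hN]
  exact mul_left_cancel_two hN hn (h3.trans h5.symm)

/-- the classes of `(-b, 1)` and `(0, b)` -/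
theorem match_two {b : ZMod N} {k : ℕ} (h1 : (0 : ZMod N) = 2 ^ k * (-b)) (h2 : b = 2 ^ k * 1) : False := by
  have h3 : b = 0 := mul_left_cancel_two hN hn (k := k) (by linear_combination h1)
  rw [h3, mul_one] at h2
  exact two_pow_ne_zero hN hn k h2.symm

/-- the classes of `(-b, 1)` and `(2^j, (1 - 2^j) b)` -/
theorem match_three {b : ZMod N} {k j : ℕ} (h1 : (2 : ZMod N) ^ j = 2 ^ k * (-b))
    (h2 : (1 - 2 ^ j) * b = 2 ^ k * 1) : ∃ m, n = 2 * m + 1 ∧ b = -2 ^ (m + 1) ∧ j % n = 1 := by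
  have h3 : (2 : ZMod N) ^ j * (2 ^ j - 1) = 2 ^ (2 * k) := by
    rw [two_mul, pow_add]
    linear_combination (2 ^ j - 1) * h1 + 2 ^ k * h2
  obtain ⟨l, hl⟩ := exists_inv hN hn j
  have h4 : (1 : ZMod N) + 2 ^ (l + 2 * k) = 2 ^ j := by
    rw [pow_add, ← h3]
    linear_combination (2 ^ j - 1) * hl
  obtain ⟨h5, h6⟩ := one_add_two_pow hN hn h4
  have h7 : (2 : ZMod N) ^ (l + 2 * k) = 1 := by rw [two_pow_mod hN, h5, pow_zero]
  have h8 : (2 : ZMod N) ^ j = 2 := by rw [two_pow_mod hN, h6, pow_one]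
  have h9 : (2 : ZMod N) ^ (2 * k) = 2 := by
    rw [pow_add] at h7
    rw [h8] at hl
    linear_combination 2 * h7 - 2 ^ (2 * k) * hl
  obtain ⟨m, hm, hk⟩ := odd_of hN hn h9
  refine ⟨m, hm, ?_, h6⟩
  have h10 : (2 : ZMod N) ^ k * 2 ^ m = 1 := by
    rw [two_pow_mod hN k, hk, ← pow_add, show m + 1 + m = n by omega, two_pow_n hN]
  refine mul_left_cancel_two hN hn (k := k) ?_
  rw [h8] at h1
  rw [pow_succ]
  linear_combination h1 + 2 * h10

/-- the classes of `(-b, 1)` and `(-2^j, (1 + 2^j) b)` -/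
theorem match_four {b : ZMod N} {k j : ℕ} (h1 : -(2 : ZMod N) ^ j = 2 ^ k * (-b))
    (h2 : (1 + 2 ^ j) * b = 2 ^ k * 1) : ∃ m, n = 2 * m + 1 ∧ b = 2 ^ m ∧ j % n = 0 := by
  have h3 : (2 : ZMod N) ^ j * (1 + 2 ^ j) = 2 ^ (2 * k) := by
    rw [two_mul, pow_add]
    linear_combination (-(1 + 2 ^ j)) * h1 + 2 ^ k * h2
  obtain ⟨l, hl⟩ := exists_inv hN hn j
  have h4 : (1 : ZMod N) + 2 ^ j = 2 ^ (l + 2 * k) := by
    rw [pow_add, ← h3]
    linear_combination (-(1 + 2 ^ j)) * hl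
  obtain ⟨h5, h6⟩ := one_add_two_pow hN hn h4
  have h8 : (2 : ZMod N) ^ j = 1 := by rw [two_pow_mod hN, h5, pow_zero]
  have h9 : (2 : ZMod N) ^ (2 * k) = 2 := by
    rw [← h3, h8]; ring
  obtain ⟨m, hm, hk⟩ := odd_of hN hn h9
  refine ⟨m, hm, ?_, h5⟩
  have h10 : (2 : ZMod N) ^ k * 2 ^ m = 1 := by
    rw [two_pow_mod hN k, hk, ← pow_add, show m + 1 + m = n by omega, two_pow_n hN]
  refine mul_left_cancel_two hN hn (k := k) ?_
  rw [h8] at h1
  linear_combination h1 - h10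

end match5

/-! ### `n = 2m + 1`, `th = 2^(m+1)`, `b = 2^m` -/

section theta

variable {N n m : ℕ} (hN : N + 1 = 2 ^ n) (hm : n = 2 * m + 1) (h1 : 1 ≤ m)

include hN hm

theorem th_sq : (2 : ZMod N) ^ (m + 1) * 2 ^ (m + 1) = 2 := by
  rw [← pow_add, show m + 1 + (m + 1) = n + 1 by omega, pow_succ, two_pow_n hN, one_mul]

theorem th_b : (2 : ZMod N) ^ (m + 1) * 2 ^ m = 1 := by
  rw [← pow_add, show m + 1 + m = n by omega, two_pow_n hN]

omit hN in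
theorem two_b : (2 : ZMod N) * 2 ^ m = 2 ^ (m + 1) := by rw [pow_succ']

include h1

/-- `th - 1` is not a power of 2 -/
theorem th_sub_one (k : ℕ) : (2 : ZMod N) ^ (m + 1) - 1 ≠ 2 ^ k := by
  intro h
  have h2 : (1 : ZMod N) + 2 ^ k = 2 ^ (m + 1) := by rw [← h]; ring
  obtain ⟨-, h3⟩ := one_add_two_pow hN (by omega) h2
  rw [Nat.mod_eq_of_lt (by omega)] at h3
  omega

/-- `1 - th` is a power of 2 only for `q = 8` -/
theorem one_sub_th {k : ℕ} (h : 1 - (2 : ZMod N) ^ (m + 1) = 2 ^ k) : m = 1 ∧ k % n = 2 := by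
  have h2 : (2 : ZMod N) ^ (m + 1) + 2 ^ k = 1 := by rw [← h]; ring
  obtain ⟨h3, h4⟩ := two_pow_add hN (by omega) h2
  rw [Nat.mod_eq_of_lt (by omega)] at h3
  omega

theorem th_ne_one : (2 : ZMod N) ^ (m + 1) ≠ 1 := by
  intro h
  have h2 : (m + 1) % n = 0 % n := two_pow_inj hN (by omega) (by rw [h, pow_zero])
  rw [Nat.mod_eq_of_lt (by omega), Nat.mod_eq_of_lt (by omega)] at h2
  omega

/-- type `Sz`: the classes of `(-b, 1)` and `(th - 1, (2 - th) b)` -/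
theorem match_five {b : ZMod N} {k : ℕ} (h2 : (2 : ZMod N) ^ (m + 1) - 1 = 2 ^ k * (-b))
    (h3 : (2 - 2 ^ (m + 1)) * b = 2 ^ k * 1) : False := by
  have hsq := th_sq hN hm
  set t : ZMod N := 2 ^ (m + 1) with ht
  have h4 : (2 : ZMod N) ^ (2 * k) + 3 * t = 4 := by
    rw [two_mul, pow_add]
    linear_combination (-(2 ^ k)) * h3 + (2 - t) * h2 + hsq
  rw [two_pow_mod hN, ht] at h4
  set e := (2 * k) % n with he
  have hen : e < n := Nat.mod_lt _ (by omega)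
  have h5 : ((2 ^ e + 3 * 2 ^ (m + 1) : ℕ) : ZMod N) = ((4 : ℕ) : ZMod N) := by push_cast; exact h4
  have hA : 2 ^ e ≤ 2 ^ (2 * m) := Nat.pow_le_pow_right (by norm_num) (by omega)
  have hA1 : 1 ≤ 2 ^ e := Nat.one_le_two_pow
  have hN' : N + 1 = 2 * 2 ^ (2 * m) := by rw [hN, hm, pow_succ, mul_comm]
  rcases Nat.lt_or_ge m 2 with h6 | h6
  · obtain rfl : m = 1 := by omega
    subst hm
    have hN7 : N = 7 := by
      have : 2 ^ (2 * 1) = 4 := by norm_num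
      omega
    subst hN7
    interval_cases e
    · exact absurd h5 (by decide)
    · exact absurd h5 (by decide)
    · exact absurd h5 (by decide)
  · -- `m ≥ 2`
    have h7 : 2 ^ (2 * m) = 2 ^ m * 2 ^ m := by rw [two_mul, pow_add]
    have h8 : 4 ≤ 2 ^ m := by
      calc 4 = 2 ^ 2 := rfl
        _ ≤ 2 ^ m := Nat.pow_le_pow_right (by norm_num) h6
    have h9 : 2 ^ (m + 1) = 2 * 2 ^ m := by rw [pow_succ, mul_comm]
    rw [ZMod.natCast_eq_natCast_iff] at h5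
    have h10 : 24 ≤ 3 * 2 ^ (m + 1) := by omega
    have h11 : N ∣ 2 ^ e + 3 * 2 ^ (m + 1) - 4 := (Nat.modEq_iff_dvd' (by omega)).1 h5.symm
    obtain ⟨c, hc⟩ := h11
    have hX : 4 * 2 ^ m ≤ 2 ^ (2 * m) := by rw [h7]; exact Nat.mul_le_mul_right _ h8
    have hc1 : c = 1 := by
      have h12 : c ≠ 0 := by
        rintro rfl
        rw [mul_zero] at hc
        omega
      have h13 : c < 2 := by
        by_contra h13
        have h14 : N * 2 ≤ N * c := Nat.mul_le_mul_left _ (by omega)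
        omega
      omega
    rw [hc1, mul_one] at hc
    -- parity
    have h12 : e = 0 := by
      by_contra h12
      obtain ⟨d, hd⟩ := Nat.exists_eq_succ_of_ne_zero h12
      have h13 : 2 ^ e = 2 * 2 ^ d := by rw [hd, Nat.succ_eq_add_one, pow_succ, mul_comm]
      omega
    rw [h12, pow_zero] at hc
    have h13 : 2 ^ (2 * m) = 4 * 2 ^ (2 * m - 2) := by
      rw [show (4 : ℕ) = 2 ^ 2 from rfl, ← pow_add]
      congr 1
      omega
    have h14 : 2 ^ m = 4 * 2 ^ (m - 2) := by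
      rw [show (4 : ℕ) = 2 ^ 2 from rfl, ← pow_add]
      congr 1
      omega
    omega

/-- type `Sz`: the classes of `(-b, 1)` and `(1 - th, th b)` -/
theorem match_six {b : ZMod N} {k : ℕ} (h2 : 1 - (2 : ZMod N) ^ (m + 1) = 2 ^ k * (-b))
    (h3 : 2 ^ (m + 1) * b = 2 ^ k * 1) : False := by
  have h4 : (2 : ZMod N) ^ (m + 1) * (2 ^ (m + 1) - 1) = 2 ^ (2 * k) := by
    rw [two_mul, pow_add]
    linear_combination (-(2 ^ (m + 1))) * h2 + 2 ^ k * h3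
  obtain ⟨l, hl⟩ := exists_inv hN (show 2 ≤ n by omega) (m + 1)
  refine th_sub_one hN hm h1 (l + 2 * k) ?_
  rw [pow_add 2 l (2 * k), ← h4]
  linear_combination (-(2 ^ (m + 1) - 1)) * hl

/-- `3 θ + c ≠ 0` for `c = 10`, `14` -/
theorem three_th_ne {c : ℕ} (hc : c = 10 ∨ c = 14) : (3 : ZMod N) * 2 ^ (m + 1) + c ≠ 0 := by
  intro h
  have h2 : ((3 * 2 ^ (m + 1) + c : ℕ) : ZMod N) = 0 := by push_cast; exact h
  rw [ZMod.natCast_eq_zero_iff] at h2
  have hN' : N + 1 = 2 * 2 ^ (2 * m) := by rw [hN, hm, pow_succ, mul_comm]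
  have h9 : 2 ^ (m + 1) = 2 * 2 ^ m := by rw [pow_succ, mul_comm]
  rcases Nat.lt_or_ge m 3 with h3 | h3
  · interval_cases m
    · have hN7 : N = 7 := by
        have : 2 ^ (2 * 1) = 4 := by norm_num
        omega
      subst hN7
      rcases hc with rfl | rfl <;> norm_num at h2
    · have hN31 : N = 31 := by
        have : 2 ^ (2 * 2) = 16 := by norm_num
        omega
      subst hN31
      rcases hc with rfl | rfl <;> norm_num at h2
  · have h4 : 8 ≤ 2 ^ m := by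
      calc 8 = 2 ^ 3 := rfl
        _ ≤ 2 ^ m := Nat.pow_le_pow_right (by norm_num) h3
    have h5 : 2 ^ (2 * m) = 2 ^ m * 2 ^ m := by rw [two_mul, pow_add]
    have h6 : 8 * 2 ^ m ≤ 2 ^ (2 * m) := by rw [h5]; exact Nat.mul_le_mul_right _ h4
    have h7 := Nat.le_of_dvd (by positivity) h2
    omega

omit h1 in
theorem three_ne_zero (h1 : 1 ≤ m) : (3 : ZMod N) ≠ 0 := by
  intro h
  have hN' : N + 1 = 2 * 2 ^ (2 * m) := by rw [hN, hm, pow_succ, mul_comm]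
  have h4 : 4 ≤ 2 ^ (2 * m) := by
    calc 4 = 2 ^ 2 := rfl
      _ ≤ 2 ^ (2 * m) := Nat.pow_le_pow_right (by norm_num) (by omega)
  have h5 : ((3 : ℕ) : ZMod N) = ((0 : ℕ) : ZMod N) := by push_cast; exact h
  have h6 : (3 : ℕ) = 0 := natCast_inj (by omega) (by omega) h5
  omega

theorem two_pow_ne_neg_two (k : ℕ) : (2 : ZMod N) ^ k ≠ -2 := by
  intro h
  refine two_pow_ne_neg_one hN (by omega) (by omega : 3 ≤ n) (2 * m + k) ?_
  have h2 := two_pow_n hN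
  rw [hm] at h2
  have h3 : (2 : ZMod N) ^ (2 * m + k) * 2 = -1 * 2 := by
    rw [pow_add, h]
    rw [pow_succ] at h2
    linear_combination (-2) * h2
  exact mul_left_cancel_two hN (by omega : 2 ≤ n) (k := 1) (by rw [pow_one]; linear_combination h3)

/-- the case `a = -2θ`: the weight `(-2, 3 b)` does not occur in `Q₂ / C` -/
theorem low_one {b : ZMod N} {j k : ℕ} (hb : b = -2 ^ (m + 1)) (hj : j % n = 1) {x y : ZMod N}
    (hp : (x = 0 ∧ y = 1) ∨ (x = 2 * b ∧ y = -1) ∨ (x = b ∧ y = 0) ∨ (x = (1 - 2 ^ j) * b ∧ y = 2 ^ j) ∨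
      (x = (1 + 2 ^ j) * b ∧ y = -2 ^ j))
    (e1 : -(2 : ZMod N) ^ j = 2 ^ k * (1 - x)) (e2 : (1 + 2 ^ j) * b = 2 ^ k * (-y)) : False := by
  have hn : 2 ≤ n := by omega
  have hj2 : (2 : ZMod N) ^ j = 2 := by rw [two_pow_mod hN, hj, pow_one]
  have hsq := th_sq hN hm
  rw [hj2] at hp e1 e2
  rcases hp with ⟨rfl, rfl⟩ | ⟨rfl, rfl⟩ | ⟨rfl, rfl⟩ | ⟨rfl, rfl⟩ | ⟨rfl, rfl⟩
  · exact two_pow_ne_neg_two hN hm h1 k (by linear_combination -e1)
  · refine three_th_ne hN hm h1 (Or.inl rfl : (10 : ℕ) = 10 ∨ _) ?_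
    push_cast
    subst hb
    linear_combination (-(1 + 2 * 2 ^ (m + 1))) * e2 + e1 - 6 * hsq
  · have h3 : (2 : ZMod N) ^ (m + 1) * 3 = 2 ^ (m + 1) * 0 := by
      rw [hb] at e2
      linear_combination -e2
    exact three_ne_zero hN hm h1 (mul_left_cancel_two hN hn h3)
  · obtain ⟨l, hl⟩ := exists_inv hN hn k
    refine th_sub_one hN hm h1 (l + 1) ?_
    rw [pow_add 2 l 1, pow_one]
    rw [hb] at e1
    linear_combination (2 : ZMod N) ^ l * e1 + (1 - 2 ^ (m + 1)) * hl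
  · refine three_th_ne hN hm h1 (Or.inr rfl : (14 : ℕ) = 10 ∨ _) ?_
    push_cast
    subst hb
    linear_combination (-(1 + 3 * 2 ^ (m + 1))) * e2 + 2 * e1 - 9 * hsq

/-- the case `q = 8`, `j = 2` -/
theorem low_two {b : ZMod N} {j k : ℕ} (hb : b = 2 ^ m) (hm1 : m = 1) (hj : j % n = 2) {x y : ZMod N}
    (hp : (x = 0 ∧ y = 1) ∨ (x = 2 * b ∧ y = -1) ∨ (x = b ∧ y = 0) ∨ (x = (1 - 2 ^ j) * b ∧ y = 2 ^ j) ∨
      (x = (1 + 2 ^ j) * b ∧ y = -2 ^ j))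
    (e1 : -(2 : ZMod N) ^ j = 2 ^ k * (1 - x)) (e2 : (1 + 2 ^ j) * b = 2 ^ k * (-y)) : False := by
  subst hm1
  subst hm
  have hN7 : N = 7 := by
    have : (2 : ℕ) ^ (2 * 1 + 1) = 8 := by norm_num
    omega
  subst hN7
  have hj2 : (2 : ZMod 7) ^ j = 2 ^ 2 := by rw [two_pow_mod hN, hj]
  rw [hj2] at hp e1 e2
  rw [two_pow_mod hN k] at e1 e2
  have hk : k % (2 * 1 + 1) < 3 := Nat.mod_lt _ (by norm_num)
  generalize k % (2 * 1 + 1) = r at e1 e2 hk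
  rw [hb] at hp e2
  interval_cases r <;> rcases hp with ⟨rfl, rfl⟩ | ⟨rfl, rfl⟩ | ⟨rfl, rfl⟩ | ⟨rfl, rfl⟩ | ⟨rfl, rfl⟩ <;>
    revert e1 e2 <;> decide

omit h1 in
theorem b_ne_zero (h1 : 1 ≤ m) : (2 : ZMod N) ^ m ≠ 0 := two_pow_ne_zero hN (by omega) m

theorem th_sub_one_ne_zero : (2 : ZMod N) ^ (m + 1) - 1 ≠ 0 := fun h => th_ne_one hN hm h1 (sub_eq_zero.1 h)

/-- `(0, θ - 1)` in `Q₂ / C` -/
theorem pos_Q1 {b : ZMod N} {k : ℕ} (hb : b = 2 ^ m) {x y : ZMod N}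
    (hp : (x = 0 ∧ y = 1) ∨ (x = 2 * b ∧ y = -1) ∨ (x = b ∧ y = 0))
    (e1 : (0 : ZMod N) = 2 ^ k * (1 - x)) (e2 : (2 : ZMod N) ^ (m + 1) - 1 = 2 ^ k * (-y)) : False := by
  have hn : 2 ≤ n := by omega
  have h2b := two_b (N := N) hm
  have hx : x = 1 := by
    have := mul_left_cancel_two hN hn (k := k) (x := 1 - x) (y := 0) (by rw [← e1, mul_zero])
    linear_combination -this
  rcases hp with ⟨rfl, rfl⟩ | ⟨rfl, rfl⟩ | ⟨rfl, rfl⟩
  · exact absurd hx.symm (one_ne_zero' hN hn)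
  · rw [hb, h2b] at hx
    exact absurd hx (th_ne_one hN hm h1)
  · rw [neg_zero, mul_zero] at e2
    exact absurd e2 (th_sub_one_ne_zero hN hm h1)

/-- `(0, θ - 1)` in `Q₂ / C` -/
theorem pos_Q2 {b : ZMod N} {j k : ℕ} (hb : b = 2 ^ m) {x y : ZMod N}
    (hp : (x = (1 - 2 ^ j) * b ∧ y = 2 ^ j) ∨ (x = (1 + 2 ^ j) * b ∧ y = -2 ^ j))
    (e1 : (0 : ZMod N) = 2 ^ k * (1 - x)) : m = 1 ∧ j % n = 2 := by
  have hn : 2 ≤ n := by omega
  have htb := th_b hN hm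
  have hx : x = 1 := by
    have := mul_left_cancel_two hN hn (k := k) (x := 1 - x) (y := 0) (by rw [← e1, mul_zero])
    linear_combination -this
  rcases hp with ⟨h3, h4⟩ | ⟨rfl, rfl⟩
  · refine one_sub_th hN hm h1 (k := j) ?_
    rw [h3, hb] at hx
    linear_combination (2 : ZMod N) ^ (m + 1) * hx - (1 - 2 ^ j) * htb
  · exfalso
    rw [hb] at hx
    refine th_sub_one hN hm h1 j ?_
    linear_combination (-(2 : ZMod N) ^ (m + 1)) * hx + (1 + 2 ^ j) * htb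

/-- `(0, θ - 1)` in `W / V` -/
theorem pos_W {b : ZMod N} {j k : ℕ} (hb : b = 2 ^ m) {x y : ZMod N}
    (hp : (x = 2 * b ∧ y = -1) ∨ (x = b ∧ y = 0) ∨ (x = (1 - 2 ^ j) * b ∧ y = 2 ^ j) ∨
      (x = (1 + 2 ^ j) * b ∧ y = -2 ^ j))
    (e1 : (0 : ZMod N) = 2 ^ k * x) (e2 : (2 : ZMod N) ^ (m + 1) - 1 = 2 ^ k * y) : False := by
  have hn : 2 ≤ n := by omega
  have h2b := two_b (N := N) hm
  have htb := th_b hN hm
  have hx : x = 0 := mul_left_cancel_two hN hn (k := k) (by rw [← e1, mul_zero])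
  rcases hp with ⟨rfl, rfl⟩ | ⟨rfl, rfl⟩ | ⟨rfl, rfl⟩ | ⟨rfl, rfl⟩
  · rw [hb, h2b] at hx
    exact two_pow_ne_zero hN hn _ hx
  · rw [hb] at hx
    exact two_pow_ne_zero hN hn _ hx
  · rw [hb] at hx
    have h3 : (2 : ZMod N) ^ j = 1 := by
      linear_combination (-(2 : ZMod N) ^ (m + 1)) * hx + (1 - 2 ^ j) * htb
    rw [h3, mul_one] at e2
    exact th_sub_one hN hm h1 k e2
  · rw [hb] at hx
    refine two_pow_ne_neg_one hN hn (by omega) j ?_
    linear_combination (2 : ZMod N) ^ (m + 1) * hx - (1 + 2 ^ j) * htb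

/-- `(θ - 1, 0)` in `W / V` -/
theorem pos_W' {b : ZMod N} {j k : ℕ} (hb : b = 2 ^ m) {x y : ZMod N}
    (hp : (x = 2 * b ∧ y = -1) ∨ (x = b ∧ y = 0) ∨ (x = (1 - 2 ^ j) * b ∧ y = 2 ^ j) ∨
      (x = (1 + 2 ^ j) * b ∧ y = -2 ^ j))
    (e1 : (2 : ZMod N) ^ (m + 1) - 1 = 2 ^ k * x) (e2 : (0 : ZMod N) = 2 ^ k * y) : False := by
  have hn : 2 ≤ n := by omega
  have hy : y = 0 := mul_left_cancel_two hN hn (k := k) (by rw [← e2, mul_zero])
  rcases hp with ⟨rfl, rfl⟩ | ⟨rfl, rfl⟩ | ⟨rfl, rfl⟩ | ⟨rfl, rfl⟩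
  · exact one_ne_zero' hN hn (by linear_combination -hy)
  · rw [hb, ← pow_add] at e1
    exact th_sub_one hN hm h1 _ e1
  · exact two_pow_ne_zero hN hn _ hy
  · exact two_pow_ne_zero hN hn j (by linear_combination -hy)

/-- the partner of `(0, θ - 1)` in `W_y` (`q = 8`) -/
theorem pos_partner {b : ZMod N} {j k l : ℕ} (hb : b = 2 ^ m) {x y u : ZMod N}
    (hp : (x = 1 ∧ y = 0) ∨ (x = 0 ∧ y = 1) ∨ (x = 2 * b ∧ y = -1) ∨ (x = b ∧ y = 0) ∨
      (x = (1 - 2 ^ j) * b ∧ y = 2 ^ j) ∨ (x = (1 + 2 ^ j) * b ∧ y = -2 ^ j))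
    (e1 : u = 2 ^ k * (-b)) (e2 : 1 - (2 : ZMod N) ^ (m + 1) - (2 ^ (m + 1) - 1) = 2 ^ k * 1)
    (e3 : 1 - (2 : ZMod N) ^ (m + 1) = 2 ^ l * x) (e4 : u = 2 ^ l * y) : False := by
  have hn : 2 ≤ n := by omega
  have h3 : m = 1 := by
    refine (one_sub_th hN hm h1 (k := 2 * m + k) ?_).1
    have h4 := two_pow_n hN
    rw [hm, pow_succ] at h4
    rw [pow_add]
    linear_combination (2 : ZMod N) ^ (2 * m) * e2 - (1 - 2 ^ (m + 1)) * h4
  subst h3
  subst hm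
  have hN7 : N = 7 := by
    have : (2 : ℕ) ^ (2 * 1 + 1) = 8 := by norm_num
    omega
  subst hN7
  rw [two_pow_mod hN k] at e1 e2
  rw [two_pow_mod hN l] at e3 e4
  rw [two_pow_mod hN j] at hp
  have hk : k % (2 * 1 + 1) < 3 := Nat.mod_lt _ (by norm_num)
  have hl : l % (2 * 1 + 1) < 3 := Nat.mod_lt _ (by norm_num)
  have hj : j % (2 * 1 + 1) < 3 := Nat.mod_lt _ (by norm_num)
  generalize k % (2 * 1 + 1) = r at e1 e2 hk
  generalize l % (2 * 1 + 1) = r' at e3 e4 hl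
  generalize j % (2 * 1 + 1) = r'' at hp hj
  subst hb
  subst e1
  interval_cases r <;> interval_cases r'' <;> interval_cases r' <;>
    rcases hp with ⟨rfl, rfl⟩ | ⟨rfl, rfl⟩ | ⟨rfl, rfl⟩ | ⟨rfl, rfl⟩ | ⟨rfl, rfl⟩ | ⟨rfl, rfl⟩ <;>
    first
      | exact absurd e2 (by decide)
      | exact absurd e3 (by decide)
      | exact absurd e4 (by decide)

theorem th_ne_two : (2 : ZMod N) ^ (m + 1) ≠ 2 := by
  intro h
  have h2 : (m + 1) % n = 1 % n := two_pow_inj hN (by omega) (by rw [h, pow_one])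
  rw [Nat.mod_eq_of_lt (by omega), Nat.mod_eq_of_lt (by omega)] at h2
  omega

/-- `Sz`: the weights of `W_y / V` and of `Q₂ / C` -/
theorem sz_match {k : ℕ} {x y u v : ZMod N}
    (hu : (x = 2 ^ (m + 1) - 1 ∧ y = 2 ^ (m + 1) - 1) ∨ (x = -1 ∧ y = 2 ^ (m + 1)) ∨ (x = 0 ∧ y = 2 ^ m))
    (hv : (u = 1 ∧ v = -1) ∨ (u = 2 - 2 ^ (m + 1) ∧ v = 1 - 2 ^ (m + 1)) ∨
      (u = 0 ∧ v = 2 ^ (m + 1) - 1) ∨ (u = 1 - 2 ^ (m + 1) ∧ v = 1) ∨ (u = 1 - 2 ^ m ∧ v = 0))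
    (e1 : u = 2 ^ k * x) (e2 : v = 2 ^ k * y) : False := by
  have hn : 2 ≤ n := by omega
  have hsq := th_sq hN hm
  have z1 := th_sub_one_ne_zero hN hm h1
  have z2 := one_ne_zero' hN hn
  have z3 : (2 : ZMod N) ≠ 0 := by
    have := two_pow_ne_zero hN hn 1
    rwa [pow_one] at this
  rcases hu with ⟨rfl, rfl⟩ | ⟨rfl, rfl⟩ | ⟨rfl, rfl⟩
  · have e3 : u = v := e1.trans e2.symm
    rcases hv with ⟨rfl, rfl⟩ | ⟨rfl, rfl⟩ | ⟨rfl, rfl⟩ | ⟨rfl, rfl⟩ | ⟨rfl, rfl⟩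
    · exact z3 (by linear_combination e3)
    · exact z2 (by linear_combination e3)
    · exact z1 e3.symm
    · exact two_pow_ne_zero hN hn (m + 1) (by linear_combination -e3)
    · exact z1 (mul_left_cancel_two hN hn (k := k) (by rw [← e2, mul_zero]))
  · rcases hv with ⟨rfl, rfl⟩ | ⟨rfl, rfl⟩ | ⟨rfl, rfl⟩ | ⟨rfl, rfl⟩ | ⟨rfl, rfl⟩
    · exact two_pow_ne_neg_one hN hn (by omega) k (by linear_combination e1)
    · exact th_ne_one hN hm h1 (by linear_combination e2 + (2 : ZMod N) ^ (m + 1) * e1 + hsq)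
    · exact two_pow_ne_zero hN hn k (by linear_combination e1)
    · exact th_sub_one hN hm h1 k (by linear_combination -e1)
    · rw [← pow_add] at e2
      exact two_pow_ne_zero hN hn _ e2.symm
  · rw [mul_zero] at e1
    rcases hv with ⟨rfl, rfl⟩ | ⟨rfl, rfl⟩ | ⟨rfl, rfl⟩ | ⟨rfl, rfl⟩ | ⟨rfl, rfl⟩
    · exact z2 e1
    · exact th_ne_two hN hm h1 (by linear_combination -e1)
    · rw [← pow_add] at e2
      exact th_sub_one hN hm h1 _ e2
    · exact th_ne_one hN hm h1 (by linear_combination -e1)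
    · rw [← pow_add] at e2
      exact two_pow_ne_zero hN hn _ e2.symm

end theta

end Cfsg.Agent.Omega.NO3S.B3
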