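import Cfsg.Agent.Omega.NO3S.B3.Wts

/-!
# The characters `i α + j β` of the common torus

`ch α β (i, j) = α^i β^j`, `i, j` modulo `q - 1`; `Cl p p'` : `p' = 2^k p` (Galois conjugate weights).
-/

set_option autoImplicit false
set_option linter.unusedSectionVars false

namespace Cfsg.Agent.Omega.NO3S.B3

open Subgroup
open scoped Pointwise

variable {G : Type*} [Group G] {F : Type*} [Field F]

/-- weights modulo `q - 1` -/
abbrev Wt (F : Type*) [Field F] := ZMod (Nat.card F - 1) × ZMod (Nat.card F - 1)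

/-- Galois conjugate weights -/
def Cl (p p' : Wt F) : Prop := ∃ k : ℕ, p' = (2 ^ k * p.1, 2 ^ k * p.2)

section cl

variable {p p' p'' : Wt F}

theorem Cl.refl (p : Wt F) : Cl p p := ⟨0, by simp⟩

theorem Cl.trans (h : Cl p p') (h' : Cl p' p'') : Cl p p'' := by
  obtain ⟨k, rfl⟩ := h
  obtain ⟨l, rfl⟩ := h'
  exact ⟨l + k, by simp only [pow_add, mul_assoc]⟩

theorem neZero_card [Finite F] : NeZero (Nat.card F - 1) := ⟨by have : 1 < Nat.card F := Finite.one_lt_card; omega⟩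

theorem two_pow_eq {n : ℕ} (hn : Nat.card F = 2 ^ n) : (2 : ZMod (Nat.card F - 1)) ^ n = 1 := by
  have h1 : ((2 ^ n - 1 : ℕ) : ZMod (Nat.card F - 1)) = 0 := by
    rw [← hn]; exact ZMod.natCast_self _
  rw [Nat.cast_sub (Nat.one_le_two_pow), Nat.cast_pow, Nat.cast_one, sub_eq_zero] at h1
  exact_mod_cast h1

theorem Cl.symm [Finite F] [CharP F 2] (h : Cl p p') : Cl p' p := by
  obtain ⟨n, hn, hq⟩ := exists_card_eq (F := F)
  obtain ⟨k, rfl⟩ := h
  have h1 : (2 : ZMod (Nat.card F - 1)) ^ ((n - 1) * k) * 2 ^ k = 1 := by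
    rw [← pow_add]
    have e : (n - 1) * k + k = n * k := by
      obtain ⟨m, rfl⟩ : ∃ m, n = m + 1 := ⟨n - 1, by omega⟩
      rw [Nat.add_sub_cancel]; ring
    rw [e, pow_mul, two_pow_eq hq, one_pow]
  refine ⟨(n - 1) * k, ?_⟩
  ext
  · simp only [← mul_assoc, h1, one_mul]
  · simp only [← mul_assoc, h1, one_mul]

theorem Cl.swap (h : Cl p p') : Cl p.swap p'.swap := by
  obtain ⟨k, rfl⟩ := h
  exact ⟨k, rfl⟩

end cl

section ch

variable {T : Subgroup G} (α β : T →* Fˣ)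

/-- the character `i α + j β` -/
noncomputable def ch (p : Wt F) : T →* Fˣ := α ^ p.1.val * β ^ p.2.val

theorem pow_card_sub_one_char [Finite F] (χ : T →* Fˣ) : χ ^ (Nat.card F - 1) = 1 := by
  have : Fintype F := Fintype.ofFinite F
  ext t
  rw [MonoidHom.pow_apply, Units.val_pow_eq_pow_val, Nat.card_eq_fintype_card,
    FiniteField.pow_card_sub_one_eq_one _ (Units.ne_zero _), MonoidHom.one_apply, Units.val_one]

theorem pow_val_natCast [Finite F] (χ : T →* Fˣ) (a : ℕ) : χ ^ (a : ZMod (Nat.card F - 1)).val = χ ^ a := by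
  have := neZero_card (F := F)
  rw [ZMod.val_natCast, ← pow_mod_natCard_sub_one χ a]
where
  pow_mod_natCard_sub_one (χ : T →* Fˣ) (a : ℕ) : χ ^ (a % (Nat.card F - 1)) = χ ^ a := by
    conv_rhs => rw [← Nat.div_add_mod a (Nat.card F - 1), pow_add χ, pow_mul χ, pow_card_sub_one_char]
    ext t
    simp

variable [Finite F]

theorem ch_natCast (a b : ℕ) : ch α β ((a : ZMod (Nat.card F - 1)), (b : ZMod (Nat.card F - 1))) = α ^ a * β ^ b := by
  rw [ch, pow_val_natCast, pow_val_natCast]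

theorem exists_natCast (p : Wt F) : ∃ a b : ℕ, p = ((a : ZMod (Nat.card F - 1)), (b : ZMod (Nat.card F - 1))) := by
  have := neZero_card (F := F)
  exact ⟨p.1.val, p.2.val, by simp⟩

theorem ch_add (p p' : Wt F) : ch α β (p + p') = ch α β p * ch α β p' := by
  obtain ⟨a, b, rfl⟩ := exists_natCast p
  obtain ⟨a', b', rfl⟩ := exists_natCast p'
  rw [Prod.mk_add_mk, ← Nat.cast_add, ← Nat.cast_add, ch_natCast, ch_natCast, ch_natCast, pow_add α, pow_add β]
  exact mul_mul_mul_comm (α ^ a) (α ^ a') (β ^ b) (β ^ b')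

theorem ch_zero : ch α β 0 = 1 := by
  have := ch_natCast α β 0 0
  rw [Nat.cast_zero] at this
  refine this.trans ?_
  ext t
  simp

theorem ch_neg (p : Wt F) : ch α β (-p) = (ch α β p)⁻¹ := by
  have h : ch α β (-p) * ch α β p = 1 := by rw [← ch_add, neg_add_cancel, ch_zero]
  ext t
  have h1 := DFunLike.congr_fun h t
  rw [MonoidHom.mul_apply, MonoidHom.one_apply] at h1
  rw [eq_inv_of_mul_eq_one_left h1, MonoidHom.inv_apply]

theorem ch_sub (p p' : Wt F) : ch α β (p - p') = ch α β p * (ch α β p')⁻¹ := by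
  rw [sub_eq_add_neg, ch_add, ch_neg]

theorem ch_pow (p : Wt F) (k : ℕ) : ch α β ((k : ZMod (Nat.card F - 1)) * p.1, (k : ZMod (Nat.card F - 1)) * p.2) =
    ch α β p ^ k := by
  obtain ⟨a, b, rfl⟩ := exists_natCast p
  simp only [← Nat.cast_mul, ch_natCast]
  ext t
  simp only [MonoidHom.mul_apply, MonoidHom.pow_apply]
  rw [mul_pow, ← pow_mul, ← pow_mul, mul_comm k a, mul_comm k b]

theorem ch_one_zero : ch α β (1, 0) = α := by
  have := ch_natCast α β 1 0
  rw [Nat.cast_zero, Nat.cast_one] at this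
  refine this.trans ?_
  ext t
  simp

theorem ch_zero_one : ch α β (0, 1) = β := by
  have := ch_natCast α β 0 1
  rw [Nat.cast_zero, Nat.cast_one] at this
  refine this.trans ?_
  ext t
  simp

theorem Cl.gal {p p' : Wt F} (h : Cl p p') : Gal (ch α β p) (ch α β p') := by
  obtain ⟨k, rfl⟩ := h
  refine ⟨k, ?_⟩
  rw [← ch_pow]
  push_cast
  rfl

variable {α β}

/-- `(α, β)` is onto `Fˣ × Fˣ`. -/
def Full2 (α β : T →* Fˣ) : Prop := ∀ u v : Fˣ, ∃ t : T, α t = u ∧ β t = v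

theorem ch_inj (h : Full2 α β) {p p' : Wt F} (hp : ch α β p = ch α β p') : p = p' := by
  have := neZero_card (F := F)
  obtain ⟨g, hg⟩ := IsCyclic.exists_ofOrder_eq_natCard (α := Fˣ)
  rw [Nat.card_units] at hg
  have key : ∀ i j : ZMod (Nat.card F - 1), g ^ i.val = g ^ j.val → i = j := by
    intro i j hij
    rw [pow_inj_mod, hg, Nat.mod_eq_of_lt (ZMod.val_lt i), Nat.mod_eq_of_lt (ZMod.val_lt j)] at hij
    exact ZMod.val_injective _ hij
  ext
  · obtain ⟨t, ht, ht'⟩ := h g 1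
    have := DFunLike.congr_fun hp t
    simp only [ch, MonoidHom.mul_apply, MonoidHom.pow_apply, ht, ht', one_pow, mul_one] at this
    rw [key _ _ this]
  · obtain ⟨t, ht, ht'⟩ := h 1 g
    have := DFunLike.congr_fun hp t
    simp only [ch, MonoidHom.mul_apply, MonoidHom.pow_apply, ht, ht', one_pow, one_mul] at this
    rw [key _ _ this]

theorem Gal.cl (h : Full2 α β) {p p' : Wt F} (hg : Gal (ch α β p) (ch α β p')) : Cl p p' := by
  obtain ⟨k, hk⟩ := hg
  refine ⟨k, ?_⟩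
  rw [← ch_pow] at hk
  have := ch_inj h hk
  rw [this]
  push_cast
  rfl

/-- every character of `T` is an `i α + j β` -/
theorem exists_ch (h : Full2 α β) (hinj : ∀ t : T, α t = 1 → β t = 1 → t = 1) (χ : T →* Fˣ) :
    ∃ p : Wt F, χ = ch α β p := by
  obtain ⟨g, hg⟩ := IsCyclic.exists_generator (α := Fˣ)
  have hgp : ∀ u : Fˣ, ∃ a : ℕ, g ^ a = u := fun u => by
    obtain ⟨a, ha⟩ := (mem_powers_iff_mem_zpowers.2 (hg u) : u ∈ Submonoid.powers g)
    exact ⟨a, ha⟩
  obtain ⟨t₁, h1, h1'⟩ := h g 1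
  obtain ⟨t₂, h2, h2'⟩ := h 1 g
  obtain ⟨a, ha⟩ := hgp (χ t₁)
  obtain ⟨c, hc⟩ := hgp (χ t₂)
  refine ⟨((a : ZMod (Nat.card F - 1)), (c : ZMod (Nat.card F - 1))), ?_⟩
  rw [ch_natCast]
  ext t
  obtain ⟨i, hi⟩ := hgp (α t)
  obtain ⟨j, hj⟩ := hgp (β t)
  have e : t = t₁ ^ i * t₂ ^ j := by
    rw [← inv_mul_eq_one]
    refine hinj _ ?_ ?_
    · rw [map_mul, map_inv, map_mul, map_pow, map_pow, h1, h2, ← hi, one_pow, mul_one, inv_mul_cancel]
    · rw [map_mul, map_inv, map_mul, map_pow, map_pow, h1', h2', ← hj, one_pow, one_mul, inv_mul_cancel]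
  rw [MonoidHom.mul_apply, MonoidHom.pow_apply, MonoidHom.pow_apply, ← hi, ← hj, e, map_mul, map_pow, map_pow,
    ← ha, ← hc, ← pow_mul, ← pow_mul, ← pow_mul, ← pow_mul, mul_comm i a, mul_comm j c]

omit [Finite F] in
/-- Swapping `α` and `β`. -/
theorem ch_swap {n : G} (h1 : ∀ t t' : T, (t' : G) = n * t * n⁻¹ → α t' = β t)
    (h2 : ∀ t t' : T, (t' : G) = n * t * n⁻¹ → β t' = α t) (p : Wt F) (t t' : T) (h : (t' : G) = n * t * n⁻¹) :
    ch α β p.swap t' = ch α β p t := by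
  simp only [ch, MonoidHom.mul_apply, MonoidHom.pow_apply, Prod.fst_swap, Prod.snd_swap, h1 t t' h, h2 t t' h]
  exact mul_comm _ _

end ch

end Cfsg.Agent.Omega.NO3S.B3
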