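import Cfsg.Agent.Omega.NO3S.B3.Ch

/-!
# Duality ((0.2) of THEOREM B3, #12862)

`[A, Q] ≤ Z`, `Z ≅ F(α)` central. If `A / B` is a one-dimensional `F`-space `F(χ)` such that `a ↦ [a, u]` is
`F`-linear for all `u ∈ C_Q(B)`, then `C_Q(B) / C_Q(A)` embeds in `F(α χ⁻¹)`.

* `ZD` : the data `Z ≅ F(α)`;
* `LEmb`, `LFlag` : linear versions of `Emb`, `Flag`;
* `LEmb.dual`, `LFlag.dual` : the weights of `C_Q(B) / C_Q(A)` are EXACTLY `α - χ`, `χ` a weight of `A / B`.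
-/

set_option autoImplicit false
set_option linter.unusedSectionVars false

namespace Cfsg.Agent.Omega.NO3S.B3

open Subgroup
open scoped Pointwise

variable {G : Type*} [Group G] {F : Type*} [Field F]

/-- `Z ≅ F(α)` contains `[W, Q]` and is central in `W Q`. -/
structure ZD (T : Subgroup G) (α : T →* Fˣ) (z : G → F) (Z W Q : Subgroup G) : Prop where
  add : ∀ a ∈ Z, ∀ b ∈ Z, z (a * b) = z a + z b
  eqv : ∀ t : T, ∀ a ∈ Z, z ((t : G) * a * (t : G)⁻¹) = (α t : F) * z a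
  inj : ∀ a ∈ Z, z a = 0 → a = 1
  com : ∀ w ∈ W, ∀ u ∈ Q, w * u * w⁻¹ * u⁻¹ ∈ Z
  cen : ∀ a ∈ Z, ∀ u ∈ Q, a * u = u * a
  cenW : ∀ a ∈ Z, ∀ w ∈ W, a * w = w * a

/-- `A / B` is a one-dimensional `F`-space with the character `χ`, and commutation with `u ∈ C_Q(B)` is linear. -/
def LEmb (T : Subgroup G) (χ : T →* Fˣ) (z : G → F) (Q A B : Subgroup G) : Prop :=
  ∃ g : G → F, (∀ a ∈ A, ∀ b ∈ A, g (a * b) = g a + g b) ∧
    (∀ t : T, ∀ a ∈ A, g ((t : G) * a * (t : G)⁻¹) = (χ t : F) * g a) ∧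
    (∀ a ∈ A, g a = 0 → a ∈ B) ∧ (∃ a ∈ A, g a ≠ 0) ∧
    ∀ u ∈ Q, (∀ b ∈ B, b * u = u * b) → ∃ c : F, ∀ a ∈ A, z (a * u * a⁻¹ * u⁻¹) = c * g a

theorem LEmb.emb {T : Subgroup G} {χ : T →* Fˣ} {z : G → F} {Q A B : Subgroup G} (h : LEmb T χ z Q A B) :
    Emb T χ A B := by
  obtain ⟨g, h1, h2, h3, -⟩ := h
  exact ⟨g, h1, h2, h3⟩

/-- **Duality**. -/
theorem LEmb.dual {T : Subgroup G} {α χ : T →* Fˣ} {z : G → F} {Z W Q A B : Subgroup G}
    (D : ZD T α z Z W Q) (hAW : A ≤ W) (hA : T ≤ normalizer (A : Set G)) (hB : T ≤ normalizer (B : Set G))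
    (hQ : T ≤ normalizer (Q : Set G)) (h : LEmb T χ z Q A B) :
    Emb T (α * χ⁻¹) (Q ⊓ centralizer (B : Set G)) (Q ⊓ centralizer (A : Set G)) := by
  classical
  obtain ⟨g, g1, g2, g3, ⟨a₀, ha₀, hg₀⟩, g4⟩ := h
  have hc : ∀ u : G, ∃ c : F, (u ∈ Q ⊓ centralizer (B : Set G) → ∀ a ∈ A, z (a * u * a⁻¹ * u⁻¹) = c * g a) := by
    intro u
    by_cases hu : u ∈ Q ⊓ centralizer (B : Set G)
    · obtain ⟨c, hc⟩ := g4 u hu.1 fun b hb => mem_centralizer_iff.1 hu.2 b hb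
      exact ⟨c, fun _ => hc⟩
    · exact ⟨0, fun h => absurd h hu⟩
  choose c hc using hc
  have hconj : ∀ (t : T) (a : G), a ∈ A → (t : G)⁻¹ * a * t ∈ A := by
    intro t a ha
    have := (mem_normalizer_iff.1 (inv_mem (hA t.2)) a).1 ha
    rwa [inv_inv] at this
  refine ⟨c, ?_, ?_, ?_⟩
  · intro u hu v hv
    have h1 := hc _ (mul_mem hu hv) a₀ ha₀
    have h2 := hc u hu a₀ ha₀
    have h3 := hc v hv a₀ ha₀
    have h4 := D.com a₀ (hAW ha₀) v hv.1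
    have h5 := D.cen _ h4 u hu.1
    have e : a₀ * (u * v) * a₀⁻¹ * (u * v)⁻¹ = (a₀ * u * a₀⁻¹ * u⁻¹) * (a₀ * v * a₀⁻¹ * v⁻¹) := by
      calc a₀ * (u * v) * a₀⁻¹ * (u * v)⁻¹
          = (a₀ * u * a₀⁻¹ * u⁻¹) * (u * (a₀ * v * a₀⁻¹ * v⁻¹)) * u⁻¹ := by group
        _ = (a₀ * u * a₀⁻¹ * u⁻¹) * ((a₀ * v * a₀⁻¹ * v⁻¹) * u) * u⁻¹ := by rw [h5]
        _ = _ := by group
    rw [e, D.add _ (D.com _ (hAW ha₀) u hu.1) _ h4, h2, h3, ← add_mul] at h1
    exact (mul_right_cancel₀ hg₀ h1).symm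
  · intro t u hu
    have hu' : (t : G) * u * (t : G)⁻¹ ∈ Q ⊓ centralizer (B : Set G) := by
      refine ⟨(mem_normalizer_iff.1 (hQ t.2) u).1 hu.1, mem_centralizer_iff.2 fun b hb => ?_⟩
      have h1 : (t : G)⁻¹ * b * t ∈ B := by
        have := (mem_normalizer_iff.1 (inv_mem (hB t.2)) b).1 hb
        rwa [inv_inv] at this
      have h2 := mem_centralizer_iff.1 hu.2 _ h1
      calc b * ((t : G) * u * (t : G)⁻¹) = (t : G) * (((t : G)⁻¹ * b * t) * u) * (t : G)⁻¹ := by group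
        _ = (t : G) * (u * ((t : G)⁻¹ * b * t)) * (t : G)⁻¹ := by rw [h2]
        _ = _ := by group
    have ha' := hconj t a₀ ha₀
    have h1 := hc _ hu' a₀ ha₀
    have h2 := hc u hu _ ha'
    have h3 := D.eqv t _ (D.com _ (hAW ha') u hu.1)
    have e : a₀ * ((t : G) * u * (t : G)⁻¹) * a₀⁻¹ * ((t : G) * u * (t : G)⁻¹)⁻¹ =
        (t : G) * (((t : G)⁻¹ * a₀ * t) * u * ((t : G)⁻¹ * a₀ * t)⁻¹ * u⁻¹) * (t : G)⁻¹ := by group
    rw [e, h3, h2] at h1
    have h4 := g2 t _ ha'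
    have e' : (t : G) * ((t : G)⁻¹ * a₀ * t) * (t : G)⁻¹ = a₀ := by group
    rw [e'] at h4
    apply mul_right_cancel₀ hg₀
    rw [← h1, MonoidHom.mul_apply, MonoidHom.inv_apply, Units.val_mul, h4]
    have h5 : ((χ t)⁻¹ : Fˣ) * (χ t : F) = (1 : F) := Units.inv_mul _
    linear_combination (-(α t : F) * c u * g ((t : G)⁻¹ * a₀ * t)) * h5
  · intro u hu h0
    refine ⟨hu.1, mem_centralizer_iff.2 fun a ha => ?_⟩
    have h1 := hc u hu a ha
    rw [h0, zero_mul] at h1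
    have h2 := D.inj _ (D.com a (hAW ha) u hu.1) h1
    calc a * u = (a * u * a⁻¹ * u⁻¹) * (u * a) := by group
      _ = u * a := by rw [h2, one_mul]

/-- A series with one-dimensional linear factors. -/
inductive LFlag (T : Subgroup G) (z : G → F) (Q : Subgroup G) : List (T →* Fˣ) → Subgroup G → Subgroup G → Prop
  | nil {A B : Subgroup G} : A ≤ B → LFlag T z Q [] A B
  | cons {χ : T →* Fˣ} {L : List (T →* Fˣ)} {A C B : Subgroup G} :
      T ≤ normalizer (C : Set G) → C ≤ A → LEmb T χ z Q A C → LFlag T z Q L C B → LFlag T z Q (χ :: L) A B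

theorem LFlag.flag {T : Subgroup G} {z : G → F} {Q A B : Subgroup G} {L : List (T →* Fˣ)}
    (h : LFlag T z Q L A B) : Flag T L A B := by
  induction h with
  | nil h => exact .nil h
  | cons h1 h2 h3 _ ih => exact .cons h1 h2 h3.emb ih

/-- **The weights of `C_Q(B) / C_Q(A)`.** -/
theorem LFlag.dual [Finite F] [CharP F 2] {T : Subgroup G} {α : T →* Fˣ} {z : G → F} {Z W Q A B : Subgroup G}
    {L : List (T →* Fˣ)} (D : ZD T α z Z W Q) (hAW : A ≤ W) (hA : T ≤ normalizer (A : Set G))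
    (hQ : T ≤ normalizer (Q : Set G)) (h : LFlag T z Q L A B) {ψ : T →* Fˣ}
    (hψ : HasWt T ψ (Q ⊓ centralizer (B : Set G)) (Q ⊓ centralizer (A : Set G))) :
    ∃ χ ∈ L, Gal (α * χ⁻¹) ψ := by
  induction h with
  | nil h =>
    exact absurd hψ (not_hasWt_of_le (inf_le_inf_left _ (centralizer_le (by exact_mod_cast h))))
  | @cons χ L A C B hC hCA hE _ ih =>
    have hTC : T ≤ normalizer ((Q ⊓ centralizer (C : Set G) : Subgroup G) : Set G) := by
      intro t ht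
      rw [mem_normalizer_iff]
      have h1 := mem_normalizer_iff.1 (hQ ht)
      have h2 := mem_normalizer_iff.1 (hC ht)
      intro u
      rw [mem_inf, mem_inf, h1, mem_centralizer_iff, mem_centralizer_iff]
      refine and_congr_right fun _ => ⟨fun h3 b hb => ?_, fun h3 b hb => ?_⟩
      · have h4 : t⁻¹ * b * t ∈ C := by
          rw [h2]
          have : t * (t⁻¹ * b * t) * t⁻¹ = b := by group
          rwa [this]
        have h5 := h3 _ h4
        calc b * (t * u * t⁻¹) = t * ((t⁻¹ * b * t) * u) * t⁻¹ := by group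
          _ = t * (u * (t⁻¹ * b * t)) * t⁻¹ := by rw [h5]
          _ = _ := by group
      · have h4 := h3 _ ((h2 b).1 hb)
        calc b * u = t⁻¹ * ((t * b * t⁻¹) * (t * u * t⁻¹)) * t := by group
          _ = t⁻¹ * ((t * u * t⁻¹) * (t * b * t⁻¹)) * t := by rw [h4]
          _ = _ := by group
    rcases hψ.split hTC with h1 | h1
    · obtain ⟨φ, hφ, h2⟩ := ih (hCA.trans hAW) hC h1
      exact ⟨φ, List.mem_cons_of_mem _ hφ, h2⟩
    · exact ⟨χ, List.mem_cons_self, (hE.dual D hAW hA hC hQ).gal (h1.mono inf_le_right)⟩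

end Cfsg.Agent.Omega.NO3S.B3
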