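import Cfsg.Agent.Omega.NO3S.B3.Ch
import Cfsg.Agent.Omega.NO3S.B3.Arith

/-!
# THEOREM B3 (#12862), sections 5 and 7: the first match and the exhaustion

Weights `(i, j) = i α + j β`, `i, j` modulo `q - 1`, `q = |F| = 2^n`; `2 b = a` in the notation of the text.

* `Cfg` : the common torus `T ≅ Fˣ × Fˣ`, the element `s = n₁` (swaps `α` and `β`), `V ≤ W ≤ C ≤ Q ≤ S`,
  `W_y = W^s`; `C = C_Q(W)`, `Q = O₂(P₂)`.
* `TypeS` : the output of sections 0-4 for the types `SL₂(q')`, `SU₃(q')`, `O₄⁻`: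
  weights of `W/V` (`W1`: head and trivial factors; `W2`: second natural factor, not centralised by `W_y`),
  of `A = W_y Q / Q` and of `S / Q`, of `Q / C` (duality, exact), and the partner statement `quad` for the quadratic
  action of `W_y` on `C / W`.
* `TypeS.first` : `n = 2m + 1` and `b = 2^m`, i.e. `a = θ` (the case `a = -2θ` is impossible);
* `TypeS.dead` : `(0, θ - 1)` is not a weight of `S`.
-/

set_option autoImplicit false
set_option linter.unusedSectionVars false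

namespace Cfsg.Agent.Omega.NO3S.B3

open Subgroup
open scoped Pointwise

variable {G : Type*} [Group G] {F : Type*} [Field F]

/-- head (without `V`) and trivial factors of `W / V` -/
def W1 (b : ZMod (Nat.card F - 1)) (p : Wt F) : Prop := p = (2 * b, -1) ∨ p = (b, 0)

/-- second natural factor of `W / V` -/
def W2 (b : ZMod (Nat.card F - 1)) (j : ℕ) (p : Wt F) : Prop :=
  p = ((1 - 2 ^ j) * b, 2 ^ j) ∨ p = ((1 + 2 ^ j) * b, -2 ^ j)

/-- the common configuration -/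
structure Cfg (T : Subgroup G) (α β : T →* Fˣ) (s : G) (S Q C W V : Subgroup G) : Prop where
  full : Full2 α β
  inj : ∀ t : T, α t = 1 → β t = 1 → t = 1
  nT : s ∈ normalizer (T : Set G)
  ab : ∀ t t' : T, (t' : G) = s * t * s⁻¹ → α t' = β t
  ba : ∀ t t' : T, (t' : G) = s * t * s⁻¹ → β t' = α t
  sV : MulAut.conj s • V = V
  sW : MulAut.conj s • (MulAut.conj s • W) = W
  TQ : T ≤ normalizer (Q : Set G)
  TC : T ≤ normalizer (C : Set G)
  TW : T ≤ normalizer (W : Set G)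
  TV : T ≤ normalizer (V : Set G)
  VW : V ≤ W
  WC : W ≤ C
  CQ : C ≤ Q
  QS : Q ≤ S
  WyS : MulAut.conj s • W ≤ S
  cen : Q ⊓ centralizer (W : Set G) = C
  two : IsPGroup 2 S
  ne : ¬ MulAut.conj s • W ≤ Q
  wV : ∀ χ, HasWt T χ V ⊥ → Gal α χ ∨ Gal β χ

section cfg

variable [Finite F] [CharP F 2] {T : Subgroup G} {α β : T →* Fˣ} {s : G} {S Q C W V : Subgroup G}

theorem Cfg.comm (h : Cfg T α β s S Q C W V) (x y : T) : x * y = y * x := by
  rw [← mul_inv_eq_one]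
  apply h.inj
  · rw [map_mul, map_mul, map_inv, map_mul, mul_comm (α y), mul_inv_cancel]
  · rw [map_mul, map_mul, map_inv, map_mul, mul_comm (β y), mul_inv_cancel]

theorem Cfg.exp (h : Cfg T α β s S Q C W V) (x : T) : x ^ (Nat.card F - 1) = 1 := by
  have h1 : ∀ χ : T →* Fˣ, χ (x ^ (Nat.card F - 1)) = 1 := fun χ => by
    rw [map_pow]
    exact DFunLike.congr_fun (pow_card_sub_one_char χ) x
  exact h.inj _ (h1 _) (h1 _)

theorem conj_inv_norm {s : G} {T : Subgroup G} (h : s ∈ normalizer (T : Set G)) :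
    s⁻¹ ∈ normalizer (T : Set G) := inv_mem h

/-- conjugation by `s` swaps the weights -/
theorem Cfg.conj (h : Cfg T α β s S Q C W V) {A B : Subgroup G} {p : Wt F}
    (hw : HasWt T (ch α β p) A B) :
    HasWt T (ch α β p.swap) (MulAut.conj s • A) (MulAut.conj s • B) :=
  hw.conj s h.nT fun t t' ht => ch_swap h.ab h.ba p t t' ht

theorem Cfg.TWy (h : Cfg T α β s S Q C W V) : T ≤ normalizer ((MulAut.conj s • W : Subgroup G) : Set G) := by
  intro t ht
  have h1 : s⁻¹ * t * s ∈ T := by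
    have := (mem_normalizer_iff.1 (inv_mem h.nT) t).1 ht
    rwa [inv_inv] at this
  have h2 := h.TW h1
  have hmem : ∀ g : G, g ∈ MulAut.conj s • W ↔ s⁻¹ * g * s ∈ W := by
    intro g
    rw [Subgroup.mem_pointwise_smul_iff_inv_smul_mem, ← map_inv, MulAut.smul_def, MulAut.conj_apply, inv_inv]
  rw [mem_normalizer_iff]
  intro g
  rw [hmem, hmem, mem_normalizer_iff.1 h2]
  have e : s⁻¹ * t * s * (s⁻¹ * g * s) * (s⁻¹ * t * s)⁻¹ = s⁻¹ * (t * g * t⁻¹) * s := by group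
  rw [e]

/-- a weight of `A = W_y Q / Q` -/
theorem Cfg.exists_wt [Finite G] (h : Cfg T α β s S Q C W V) :
    ∃ p : Wt F, HasWt T (ch α β p) (MulAut.conj s • W) Q := by
  obtain ⟨χ, hχ⟩ := exists_hasWt (F := F) (h.two.to_le h.WyS) h.TWy h.TQ h.ne h.comm h.exp
  obtain ⟨p, rfl⟩ := exists_ch h.full h.inj χ
  exact ⟨p, hχ⟩

theorem mem_conj_smul {s g : G} {A : Subgroup G} : g ∈ MulAut.conj s • A ↔ s⁻¹ * g * s ∈ A := by
  rw [Subgroup.mem_pointwise_smul_iff_inv_smul_mem, ← map_inv, MulAut.smul_def, MulAut.conj_apply, inv_inv]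

theorem conj_centralizer (s : G) (A : Subgroup G) :
    MulAut.conj s • centralizer (A : Set G) = centralizer ((MulAut.conj s • A : Subgroup G) : Set G) := by
  ext g
  rw [mem_conj_smul, mem_centralizer_iff, mem_centralizer_iff]
  constructor
  · intro h a ha
    have h1 := h _ (mem_conj_smul.1 ha)
    calc a * g = s * ((s⁻¹ * a * s) * (s⁻¹ * g * s)) * s⁻¹ := by group
      _ = s * ((s⁻¹ * g * s) * (s⁻¹ * a * s)) * s⁻¹ := by rw [h1]
      _ = g * a := by group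
  · intro h a ha
    have h1 := h (s * a * s⁻¹) (mem_conj_smul.2 (by
      have : s⁻¹ * (s * a * s⁻¹) * s = a := by group
      rwa [this]))
    calc a * (s⁻¹ * g * s) = s⁻¹ * ((s * a * s⁻¹) * g) * s := by group
      _ = s⁻¹ * (g * (s * a * s⁻¹)) * s := by rw [h1]
      _ = s⁻¹ * g * s * a := by group

theorem Cfg.V_le_Wy (h : Cfg T α β s S Q C W V) : V ≤ MulAut.conj s • W := by
  have : MulAut.conj s • V ≤ MulAut.conj s • W := Subgroup.pointwise_smul_le_pointwise_smul_iff.2 h.VW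
  rwa [h.sV] at this

theorem Cfg.V_le_Q (h : Cfg T α β s S Q C W V) : V ≤ Q := h.VW.trans (h.WC.trans h.CQ)

/-- weights of `W_y / V` -/
theorem Cfg.Wy_V (h : Cfg T α β s S Q C W V) {p : Wt F}
    (hw : HasWt T (ch α β p) (MulAut.conj s • W) V) : HasWt T (ch α β p.swap) W V := by
  have h1 := h.conj hw
  rwa [h.sW, h.sV] at h1

/-- weights of `V` -/
theorem Cfg.wV' (h : Cfg T α β s S Q C W V) {p : Wt F} (hw : HasWt T (ch α β p) V ⊥) :
    Cl (1, 0) p ∨ Cl (0, 1) p := by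
  rcases h.wV _ hw with h1 | h1
  · left
    have h2 : Gal (ch α β (1, 0)) (ch α β p) := by rw [ch_one_zero]; exact h1
    exact h2.cl h.full
  · right
    have h2 : Gal (ch α β (0, 1)) (ch α β p) := by rw [ch_zero_one]; exact h1
    exact h2.cl h.full

end cfg

/-- the low part of the second natural factor of `W / V` is not centralised by `W_y` -/
def Low (T : Subgroup G) (α β : T →* Fˣ) (s : G) (W : Subgroup G) (b : ZMod (Nat.card F - 1)) (j : ℕ) : Prop :=
  HasWt T (ch α β (((1 + 2 ^ j) * b, -2 ^ j) : Wt F)) W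
    (centralizer ((MulAut.conj s • W : Subgroup G) : Set G))

/-- **The output of sections 0-4 for the types `SL₂`, `SU₃`, `O₄⁻`.** -/
structure TypeS (T : Subgroup G) (α β : T →* Fˣ) (s : G) (S Q C W V : Subgroup G)
    (b : ZMod (Nat.card F - 1)) (j : ℕ) : Prop extends Cfg T α β s S Q C W V where
  wW : ∀ p : Wt F, HasWt T (ch α β p) W V → ∃ p', Cl p' p ∧ (W1 b p' ∨ W2 b j p' ∧ Low T α β s W b j)
  wA : ∀ p : Wt F, HasWt T (ch α β p) (MulAut.conj s • W) Q → Cl (-b, 1) p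
  wS : ∀ p : Wt F, HasWt T (ch α β p) S Q → Cl (-b, 1) p ∨ p = 0
  wQ : ∀ p : Wt F, HasWt T (ch α β p) Q C → ∃ p' : Wt F, Cl (1 - p'.1, -p'.2) p ∧
    (p' = (0, 1) ∨ W1 b p' ∨ W2 b j p' ∧ Low T α β s W b j)
  quad : ∀ p : Wt F, HasWt T (ch α β p) C W → p.2 = 0 ∨ HasWt T (ch α β p) (MulAut.conj s • W) ⊥ ∨
    ∃ p' : Wt F, HasWt T (ch α β p') (MulAut.conj s • W) ⊥ ∧ Cl (-b, 1) (p' - p) ∧ p'.2 = -p.2

section typeS

variable [Finite F] [CharP F 2] {T : Subgroup G} {α β : T →* Fˣ} {s : G} {S Q C W V : Subgroup G}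
  {b : ZMod (Nat.card F - 1)} {j : ℕ}

theorem TypeS.low_cl (h : TypeS T α β s S Q C W V b j) (hl : Low T α β s W b j) :
    Cl (-b, 1) ((-2 ^ j, (1 + 2 ^ j) * b) : Wt F) ∨ ∃ p' : Wt F,
      Cl (1 - p'.1, -p'.2) ((-2 ^ j, (1 + 2 ^ j) * b) : Wt F) ∧ (p' = (0, 1) ∨ W1 b p' ∨ W2 b j p') := by
  have h1 := h.conj hl
  rw [conj_centralizer, h.sW] at h1
  simp only [Prod.swap_prod_mk] at h1
  rcases h1.split h.TQ with h2 | h2
  · exact Or.inl (h.wA _ h2)
  · right
    have h3 : HasWt T (ch α β ((-2 ^ j, (1 + 2 ^ j) * b) : Wt F)) Q C :=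
      (h2.mono inf_le_right).anti (inf_le_right.trans (h.cen.symm.le.trans inf_le_right))
    obtain ⟨p', h4, h5⟩ := h.wQ _ h3
    refine ⟨p', h4, ?_⟩
    rcases h5 with h5 | h5 | h5
    · exact Or.inl h5
    · exact Or.inr (Or.inl h5)
    · exact Or.inr (Or.inr h5.1)

/-- **Section 5**: `q = 2^(2m+1)` and `a = θ`. -/
theorem TypeS.first [Finite G] (h : TypeS T α β s S Q C W V b j) (hq : 4 ≤ Nat.card F) :
    ∃ m, 1 ≤ m ∧ Nat.card F = 2 ^ (2 * m + 1) ∧ b = 2 ^ m := by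
  obtain ⟨n, hn1, hn⟩ := exists_card_eq (F := F)
  have hN : (Nat.card F - 1) + 1 = 2 ^ n := by omega
  have hn2 : 2 ≤ n := by
    by_contra hcon
    have : n = 1 := by omega
    rw [this] at hn
    omega
  obtain ⟨p, hp⟩ := h.exists_wt
  have h1 := h.wA p hp
  obtain ⟨p', h2, h3⟩ := h.wW _ (h.Wy_V (hp.anti' h.V_le_Q))
  have h4 : Cl (-b, 1) p'.swap := h1.trans (by simpa using h2.symm.swap)
  obtain ⟨k, hk⟩ := h4
  have hk1 : p'.2 = 2 ^ k * (-b) := congrArg Prod.fst hk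
  have hk2 : p'.1 = 2 ^ k * 1 := congrArg Prod.snd hk
  rcases h3 with (rfl | rfl) | ⟨rfl | rfl, hl⟩
  · obtain ⟨m, hm, hb⟩ := match_one hN hn2 hk1 hk2
    exact ⟨m, by omega, hm ▸ hn, hb⟩
  · exact (match_two hN hn2 hk1 hk2).elim
  · exfalso
    obtain ⟨m, hm, hb, hj⟩ := match_three hN hn2 hk1 hk2
    rcases h.low_cl hl with ⟨l, h5⟩ | ⟨p', ⟨l, h5⟩, h6⟩
    · obtain ⟨m', -, -, hj'⟩ := match_four hN hn2 (congrArg Prod.fst h5) (congrArg Prod.snd h5)
      omega
    · refine low_one hN hm (by omega) hb hj (x := p'.1) (y := p'.2) ?_ (congrArg Prod.fst h5)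
        (congrArg Prod.snd h5)
      rcases h6 with rfl | (rfl | rfl) | (rfl | rfl) <;> simp
  · obtain ⟨m, hm, hb, -⟩ := match_four hN hn2 hk1 hk2
    exact ⟨m, by omega, hm ▸ hn, hb⟩

/-- **Section 7**: `(0, θ - 1)` is not a weight of `S`. -/
theorem TypeS.dead [Finite G] (h : TypeS T α β s S Q C W V b j) {m : ℕ} (h1 : 1 ≤ m)
    (hn : Nat.card F = 2 ^ (2 * m + 1)) (hb : b = 2 ^ m)
    (hS : HasWt T (ch α β ((0, 2 ^ (m + 1) - 1) : Wt F)) S ⊥) : False := by
  have hN : (Nat.card F - 1) + 1 = 2 ^ (2 * m + 1) := by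
    have : 1 ≤ 2 ^ (2 * m + 1) := Nat.one_le_two_pow
    omega
  have hn2 : 2 ≤ 2 * m + 1 := by omega
  have hth := th_sub_one_ne_zero hN rfl h1
  -- weights of `V`
  have kV : ¬ HasWt T (ch α β ((0, 2 ^ (m + 1) - 1) : Wt F)) V ⊥ := by
    intro hw
    rcases h.wV' hw with ⟨k, hk⟩ | ⟨k, hk⟩
    · have := congrArg Prod.fst hk
      simp only [mul_one] at this
      exact two_pow_ne_zero hN hn2 k this.symm
    · have := congrArg Prod.snd hk
      simp only [mul_one] at this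
      exact th_sub_one hN rfl h1 k this
  rcases hS.split h.TQ with h2 | h2
  · -- `S / Q`
    rcases h.wS _ h2 with ⟨k, hk⟩ | h3
    · have h4 : (0 : ZMod (Nat.card F - 1)) = 2 ^ k * (-b) := congrArg Prod.fst hk
      have h5 : b = 0 := mul_left_cancel_two hN hn2 (k := k) (by linear_combination h4)
      rw [hb] at h5
      exact two_pow_ne_zero hN hn2 m h5
    · exact hth (congrArg Prod.snd h3)
  -- `q = 8`, `j = 2` is impossible
  have kL : Low T α β s W b j → m = 1 → j % (2 * m + 1) = 2 → False := by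
    intro hl hm1 hj2
    rcases h.low_cl hl with ⟨l, h5⟩ | ⟨p', ⟨l, h5⟩, h6⟩
    · obtain ⟨m', -, -, hj'⟩ := match_four hN hn2 (congrArg Prod.fst h5) (congrArg Prod.snd h5)
      omega
    · refine low_two hN rfl h1 hb hm1 hj2 (x := p'.1) (y := p'.2) ?_ (congrArg Prod.fst h5)
        (congrArg Prod.snd h5)
      rcases h6 with rfl | (rfl | rfl) | (rfl | rfl) <;> simp
  rcases h2.split h.TC with h3 | h3
  · -- `Q / C`
    obtain ⟨p', ⟨k, hk⟩, h4⟩ := h.wQ _ (h3.mono inf_le_right)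
    have e1 : (0 : ZMod (Nat.card F - 1)) = 2 ^ k * (1 - p'.1) := congrArg Prod.fst hk
    have e2 : (2 : ZMod (Nat.card F - 1)) ^ (m + 1) - 1 = 2 ^ k * (-p'.2) := congrArg Prod.snd hk
    rcases h4 with h4 | h4 | ⟨h4, hl⟩
    · exact pos_Q1 hN rfl h1 hb (x := p'.1) (y := p'.2) (by rcases h4 with rfl; simp) e1 e2
    · exact pos_Q1 hN rfl h1 hb (x := p'.1) (y := p'.2) (by rcases h4 with rfl | rfl <;> simp) e1 e2
    · obtain ⟨h5, h6⟩ := pos_Q2 hN rfl h1 hb (j := j) (x := p'.1) (y := p'.2)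
        (by rcases h4 with rfl | rfl <;> simp) e1
      exact kL hl h5 h6
  -- `W / V`
  have kW : ∀ {A : Subgroup G}, A ≤ W → ¬ HasWt T (ch α β ((0, 2 ^ (m + 1) - 1) : Wt F)) A V := by
    intro A hA hw
    obtain ⟨p', ⟨k, hk⟩, h4⟩ := h.wW _ (hw.mono hA)
    exact pos_W hN rfl h1 hb (j := j) (x := p'.1) (y := p'.2)
      (by rcases h4 with (rfl | rfl) | ⟨rfl | rfl, -⟩ <;> simp) (congrArg Prod.fst hk) (congrArg Prod.snd hk)
  have h4 : HasWt T (ch α β ((0, 2 ^ (m + 1) - 1) : Wt F)) C ⊥ := h3.mono inf_le_right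
  rcases h4.split h.TW with h5 | h5
  · -- `C / W`
    rcases h.quad _ h5 with h6 | h6 | ⟨p', h6, h7, h8⟩
    · exact hth h6
    · -- in `W_y`
      rcases h6.split h.TV with h7 | h7
      · obtain ⟨p', ⟨k, hk⟩, h8⟩ := h.wW _ (h.Wy_V h7)
        exact pos_W' hN rfl h1 hb (j := j) (x := p'.1) (y := p'.2)
          (by rcases h8 with (rfl | rfl) | ⟨rfl | rfl, -⟩ <;> simp) (congrArg Prod.fst hk)
          (congrArg Prod.snd hk)
      · exact kV (h7.mono inf_le_right)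
    · -- the partner is in `W_y`
      obtain ⟨k, hk⟩ := h7
      have e1 : p'.1 = 2 ^ k * (-b) := by
        have : p'.1 - 0 = 2 ^ k * (-b) := congrArg Prod.fst hk
        rwa [sub_zero] at this
      have h8' : p'.2 = 1 - 2 ^ (m + 1) := by
        rw [h8]
        simp only
        ring
      have e2 : 1 - (2 : ZMod (Nat.card F - 1)) ^ (m + 1) - (2 ^ (m + 1) - 1) = 2 ^ k * 1 := by
        have : p'.2 - (2 ^ (m + 1) - 1) = 2 ^ k * 1 := congrArg Prod.snd hk
        rwa [h8'] at this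
      have key : ∀ (p₀ : Wt F) (l : ℕ), p'.2 = 2 ^ l * p₀.1 → p'.1 = 2 ^ l * p₀.2 →
          (p₀ = (1, 0) ∨ p₀ = (0, 1) ∨ W1 b p₀ ∨ W2 b j p₀) → False := by
        intro p₀ l h9 h10 h11
        refine pos_partner hN rfl h1 hb (j := j) (x := p₀.1) (y := p₀.2) ?_ e1 e2 (h8' ▸ h9) h10
        rcases h11 with rfl | rfl | (rfl | rfl) | (rfl | rfl) <;> simp
      rcases h6.split h.TV with h9 | h9
      · obtain ⟨p₀, ⟨l, hl⟩, h10⟩ := h.wW _ (h.Wy_V h9)
        refine key p₀ l (congrArg Prod.fst hl) (congrArg Prod.snd hl) ?_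
        rcases h10 with h10 | h10
        · exact Or.inr (Or.inr (Or.inl h10))
        · exact Or.inr (Or.inr (Or.inr h10.1))
      · rcases h.wV' (h9.mono inf_le_right) with ⟨l, hl⟩ | ⟨l, hl⟩
        · exact key (0, 1) l (congrArg Prod.snd hl) (congrArg Prod.fst hl) (Or.inr (Or.inl rfl))
        · exact key (1, 0) l (congrArg Prod.snd hl) (congrArg Prod.fst hl) (Or.inl rfl)
  · rcases h5.split h.TV with h6 | h6
    · exact kW inf_le_right h6
    · exact kV (h6.mono inf_le_right)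

end typeS

end Cfsg.Agent.Omega.NO3S.B3
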