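import Cfsg.Agent.Omega.NO3S.B3.Exh

/-!
# THEOREM B3 (#12862), type `Sz`: sections 5, (8.1), (8.2)

`TypeZ` is the output of sections 0-4 for the type `Sz(q)`, `q = 2^(2m+1)`.

* `TypeZ.first` : `b = 2^m`, i.e. `a = θ`;
* `TypeZ.sec1` : (8.1) every weight of `E_y / C_{E_y}(W)` is `(1 - θ, 1)`;
* `TypeZ.no_triv` : (8.2) if `K` is trivial on `C / W` then `W / Z` has no trivial factor at the bottom.
-/

set_option autoImplicit false
set_option linter.unusedSectionVars false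

namespace Cfsg.Agent.Omega.NO3S.B3

open Subgroup
open scoped Pointwise

variable {G : Type*} [Group G] {F : Type*} [Field F]

/-- the weights of `W / V`, type `Sz` -/
def WZ (b : ZMod (Nat.card F - 1)) (m : ℕ) (p : Wt F) : Prop :=
  p = ((2 - 2 ^ (m + 1)) * b, 2 ^ (m + 1) - 1) ∨ p = (2 ^ (m + 1) * b, 1 - 2 ^ (m + 1)) ∨ p = (2 * b, -1) ∨
    p = (b, 0)

/-- **The output of sections 0-4 for the type `Sz`.** -/
structure TypeZ (T : Subgroup G) (α β : T →* Fˣ) (s : G) (S Q C W V : Subgroup G)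
    (b : ZMod (Nat.card F - 1)) (m : ℕ) : Prop extends Cfg T α β s S Q C W V where
  one_le : 1 ≤ m
  card : Nat.card F = 2 ^ (2 * m + 1)
  wW : ∀ p : Wt F, HasWt T (ch α β p) W V → ∃ p', Cl p' p ∧ WZ b m p'
  wA : ∀ p : Wt F, HasWt T (ch α β p) (MulAut.conj s • W) Q → Cl (-b, 1) p
  wQ : ∀ p : Wt F, HasWt T (ch α β p) Q C → ∃ p' : Wt F, Cl (1 - p'.1, -p'.2) p ∧
    (p' = (0, 1) ∨ WZ b m p')

section typeZ

variable [Finite F] [CharP F 2] {T : Subgroup G} {α β : T →* Fˣ} {s : G} {S Q C W V : Subgroup G}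
  {b : ZMod (Nat.card F - 1)} {m : ℕ}

theorem TypeZ.hN (h : TypeZ T α β s S Q C W V b m) : (Nat.card F - 1) + 1 = 2 ^ (2 * m + 1) := by
  have h1 := h.card
  have : 1 ≤ 2 ^ (2 * m + 1) := Nat.one_le_two_pow
  omega

/-- **Section 5, type `Sz`**: `a = θ`. -/
theorem TypeZ.first [Finite G] (h : TypeZ T α β s S Q C W V b m) : b = 2 ^ m := by
  have hm := h.one_le
  have hn2 : 2 ≤ 2 * m + 1 := by omega
  obtain ⟨p, hp⟩ := h.exists_wt
  have h1 := h.wA p hp
  obtain ⟨p', h2, h3⟩ := h.wW _ (h.Wy_V (hp.anti' h.V_le_Q))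
  have h4 : Cl (-b, 1) p'.swap := h1.trans (by simpa using h2.symm.swap)
  obtain ⟨k, hk⟩ := h4
  have hk1 : p'.2 = 2 ^ k * (-b) := congrArg Prod.fst hk
  have hk2 : p'.1 = 2 ^ k * 1 := congrArg Prod.snd hk
  rcases h3 with rfl | rfl | rfl | rfl
  · exact (match_five h.hN rfl hm hk1 hk2).elim
  · exact (match_six h.hN rfl hm hk1 hk2).elim
  · obtain ⟨m', hm', hb⟩ := match_one h.hN hn2 hk1 hk2
    obtain rfl : m = m' := by omega
    exact hb
  · exact (match_two h.hN hn2 hk1 hk2).elim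

theorem TypeZ.wW' [Finite G] (h : TypeZ T α β s S Q C W V b m) {p : Wt F} (hp : HasWt T (ch α β p) W V) :
    Cl (2 ^ (m + 1) - 1, 2 ^ (m + 1) - 1) p ∨ Cl (1, 1 - 2 ^ (m + 1)) p ∨ Cl (2 ^ (m + 1), -1) p ∨
      Cl (2 ^ m, 0) p := by
  have hb := h.first
  have htb := th_b h.hN rfl
  have h2b := two_b (N := Nat.card F - 1) (m := m) rfl
  obtain ⟨p', h2, h3⟩ := h.wW _ hp
  rcases h3 with rfl | rfl | rfl | rfl
  · left
    have e : (2 - 2 ^ (m + 1)) * b = (2 : ZMod (Nat.card F - 1)) ^ (m + 1) - 1 := by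
      rw [hb]; linear_combination h2b - htb
    rwa [e] at h2
  · right; left
    have e : 2 ^ (m + 1) * b = (1 : ZMod (Nat.card F - 1)) := by rw [hb]; exact htb
    rwa [e] at h2
  · right; right; left
    rw [hb, h2b] at h2
    exact h2
  · right; right; right
    rw [hb] at h2
    exact h2

theorem TypeZ.wQ' [Finite G] (h : TypeZ T α β s S Q C W V b m) {p : Wt F} (hp : HasWt T (ch α β p) Q C) :
    Cl (1, -1) p ∨ Cl (2 - 2 ^ (m + 1), 1 - 2 ^ (m + 1)) p ∨ Cl (0, 2 ^ (m + 1) - 1) p ∨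
      Cl (1 - 2 ^ (m + 1), 1) p ∨ Cl (1 - 2 ^ m, 0) p := by
  have hb := h.first
  have htb := th_b h.hN rfl
  have h2b := two_b (N := Nat.card F - 1) (m := m) rfl
  obtain ⟨p', h2, h3⟩ := h.wQ _ hp
  rcases h3 with rfl | rfl | rfl | rfl | rfl
  · left
    simpa using h2
  · right; left
    have e : 1 - (2 - 2 ^ (m + 1)) * b = 2 - (2 : ZMod (Nat.card F - 1)) ^ (m + 1) := by
      rw [hb]; linear_combination htb - h2b
    have e' : -(2 ^ (m + 1) - 1) = 1 - (2 : ZMod (Nat.card F - 1)) ^ (m + 1) := by ring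
    simp only [e, e'] at h2
    exact h2
  · right; right; left
    have e : 1 - 2 ^ (m + 1) * b = (0 : ZMod (Nat.card F - 1)) := by rw [hb, htb, sub_self]
    have e' : -(1 - 2 ^ (m + 1)) = (2 : ZMod (Nat.card F - 1)) ^ (m + 1) - 1 := by ring
    simp only [e, e'] at h2
    exact h2
  · right; right; right; left
    simp only [hb, h2b, neg_neg] at h2
    exact h2
  · right; right; right; right
    simp only [hb, neg_zero] at h2
    exact h2

/-- the comparison of `W_y / V` and `Q / C` -/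
theorem TypeZ.cmp [Finite G] (h : TypeZ T α β s S Q C W V b m) {p u : Wt F}
    (hu : u = (2 ^ (m + 1) - 1, 2 ^ (m + 1) - 1) ∨ u = (-1, 2 ^ (m + 1)) ∨ u = (0, 2 ^ m)) (hup : Cl u p)
    (hp : HasWt T (ch α β p) Q C) : False := by
  have key : ∀ v : Wt F, Cl v p → (v = (1, -1) ∨ v = (2 - 2 ^ (m + 1), 1 - 2 ^ (m + 1)) ∨
      v = (0, 2 ^ (m + 1) - 1) ∨ v = (1 - 2 ^ (m + 1), 1) ∨ v = (1 - 2 ^ m, 0)) → False := by
    intro v hv hv'
    obtain ⟨k, hk⟩ := hup.trans hv.symm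
    refine sz_match h.hN rfl h.one_le (x := u.1) (y := u.2) (u := v.1) (v := v.2) ?_ ?_
      (congrArg Prod.fst hk) (congrArg Prod.snd hk)
    · rcases hu with rfl | rfl | rfl <;> simp
    · rcases hv' with rfl | rfl | rfl | rfl | rfl <;> simp
  rcases h.wQ' hp with h1 | h1 | h1 | h1 | h1
  · exact key _ h1 (by simp)
  · exact key _ h1 (by simp)
  · exact key _ h1 (by simp)
  · exact key _ h1 (by simp)
  · exact key _ h1 (by simp)

/-- **(8.1)** -/
theorem TypeZ.sec1 [Finite G] (h : TypeZ T α β s S Q C W V b m) {p : Wt F}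
    (hVC : V ≤ centralizer (W : Set G))
    (hp : HasWt T (ch α β p) ((MulAut.conj s • W) ⊓ Q) (centralizer (W : Set G))) :
    Cl (1 - 2 ^ (m + 1), 1) p := by
  have h3 : HasWt T (ch α β p) Q C :=
    (hp.mono inf_le_right).anti (inf_le_right.trans (h.cen.symm.le.trans inf_le_right))
  have h4 := h.wW' (h.Wy_V ((hp.mono inf_le_left).anti' hVC))
  rcases h4 with h5 | h5 | h5 | h5
  · exact (h.cmp (Or.inl rfl) (by simpa using h5.swap) h3).elim
  · simpa using h5.swap
  · exact (h.cmp (Or.inr (Or.inl rfl)) (by simpa using h5.swap) h3).elim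
  · exact (h.cmp (Or.inr (Or.inr rfl)) (by simpa using h5.swap) h3).elim

/-- **(8.2)**: no trivial factor at the bottom of `W / Z`. -/
theorem TypeZ.no_triv [Finite G] (h : TypeZ T α β s S Q C W V b m)
    (hK : ∀ p : Wt F, HasWt T (ch α β p) C W → p.2 = 0)
    {X Z : Subgroup G} (hXW : X ≤ W) (hTX : T ≤ normalizer (X : Set G)) (hTZ : T ≤ normalizer (Z : Set G))
    (hZV : Z ≤ V) (hV : ∀ p : Wt F, HasWt T (ch α β p) V (MulAut.conj s • Z) → Cl (1, 0) p)
    (hX : ∀ p : Wt F, HasWt T (ch α β p) X Z → Cl (b, 0) p) : X ≤ Z := by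
  have hm := h.one_le
  have hn2 : 2 ≤ 2 * m + 1 := by omega
  have hb := h.first
  -- `X_y`
  have hconjT : ∀ {Y : Subgroup G}, T ≤ normalizer (Y : Set G) →
      T ≤ normalizer ((MulAut.conj s • Y : Subgroup G) : Set G) := by
    intro Y hY t ht
    have h1 : s⁻¹ * t * s ∈ T := by
      have := (mem_normalizer_iff.1 (inv_mem h.nT) t).1 ht
      rwa [inv_inv] at this
    have h2 := hY h1
    rw [mem_normalizer_iff]
    intro g
    rw [mem_conj_smul, mem_conj_smul, mem_normalizer_iff.1 h2]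
    have e : s⁻¹ * t * s * (s⁻¹ * g * s) * (s⁻¹ * t * s)⁻¹ = s⁻¹ * (t * g * t⁻¹) * s := by group
    rw [e]
  have hXy : MulAut.conj s • X ≤ MulAut.conj s • W := Subgroup.pointwise_smul_le_pointwise_smul_iff.2 hXW
  have hZy : MulAut.conj s • Z ≤ V := by
    have : MulAut.conj s • Z ≤ MulAut.conj s • V := Subgroup.pointwise_smul_le_pointwise_smul_iff.2 hZV
    rwa [h.sV] at this
  have h2g : IsPGroup 2 (MulAut.conj s • X : Subgroup G) := h.two.to_le (hXy.trans h.WyS)
  -- all weights of `X_y / Z_y` are `(0, b)`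
  have key : ∀ p : Wt F, HasWt T (ch α β p) (MulAut.conj s • X) (MulAut.conj s • Z) → Cl (0, 2 ^ m) p := by
    intro p hp
    -- conjugate back with `s⁻¹`
    have h1 : HasWt T (ch α β p.swap) (MulAut.conj s⁻¹ • (MulAut.conj s • X))
        (MulAut.conj s⁻¹ • (MulAut.conj s • Z)) := by
      refine hp.conj s⁻¹ (inv_mem h.nT) fun t t' ht => ?_
      have h3 : (t : G) = s * t' * s⁻¹ := by rw [ht]; group
      exact (ch_swap h.ab h.ba p.swap t' t h3).symm.trans (by rw [Prod.swap_swap])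
    rw [← mul_smul, ← mul_smul, ← map_mul, inv_mul_cancel, map_one, one_smul, one_smul] at h1
    have h2 := (hX _ h1).swap
    rw [hb] at h2
    simpa using h2
  -- climbing down
  have step : ∀ (B : Subgroup G), T ≤ normalizer (B : Set G) → MulAut.conj s • Z ≤ B →
      (∀ p : Wt F, HasWt T (ch α β p) (MulAut.conj s • X) B → Cl (0, 2 ^ m) p → False) →
      MulAut.conj s • X ≤ B := by
    intro B hTB hZB hfalse
    by_contra hcon
    obtain ⟨χ, hχ⟩ := exists_hasWt (F := F) h2g (hconjT hTX) hTB hcon h.comm h.exp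
    obtain ⟨p, rfl⟩ := exists_ch h.full h.inj χ
    exact hfalse p hχ (key p (hχ.anti' hZB))
  have hQ : MulAut.conj s • X ≤ Q := by
    refine step Q h.TQ (hZy.trans h.V_le_Q) fun p hp hc => ?_
    obtain ⟨k, hk⟩ := (h.wA p (hp.mono hXy)).trans hc.symm
    rw [hb] at hk
    exact match_two h.hN hn2 (congrArg Prod.fst hk) (congrArg Prod.snd hk)
  have hC : MulAut.conj s • X ≤ C := by
    refine step C h.TC (hZy.trans (h.VW.trans h.WC)) fun p hp hc => ?_
    exact h.cmp (Or.inr (Or.inr rfl)) hc (hp.mono hQ)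
  have hW : MulAut.conj s • X ≤ W := by
    refine step W h.TW (hZy.trans h.VW) fun p hp hc => ?_
    have h1 := hK p (hp.mono hC)
    obtain ⟨k, rfl⟩ := hc
    simp only [← pow_add] at h1
    exact two_pow_ne_zero h.hN hn2 _ h1
  have hVX : MulAut.conj s • X ≤ V := by
    refine step V h.TV hZy fun p hp hc => ?_
    have z : ∀ x y : ZMod (Nat.card F - 1), x ≠ 0 → ¬ Cl (x, y) p := by
      intro x y hx h1
      obtain ⟨k, hk⟩ := h1.trans hc.symm
      have h2 : (0 : ZMod (Nat.card F - 1)) = 2 ^ k * x := congrArg Prod.fst hk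
      exact hx (mul_left_cancel_two h.hN hn2 (k := k) (by rw [← h2, mul_zero]))
    rcases h.wW' (hp.mono hW) with h1 | h1 | h1 | h1
    · exact z _ _ (th_sub_one_ne_zero h.hN rfl hm) h1
    · exact z _ _ (one_ne_zero' h.hN hn2) h1
    · exact z _ _ (two_pow_ne_zero h.hN hn2 _) h1
    · exact z _ _ (two_pow_ne_zero h.hN hn2 _) h1
  have hZX : MulAut.conj s • X ≤ MulAut.conj s • Z := by
    refine step _ (hconjT hTZ) le_rfl fun p hp hc => ?_
    obtain ⟨k, hk⟩ := (hV p (hp.mono hVX)).trans hc.symm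
    have h2 : (0 : ZMod (Nat.card F - 1)) = 2 ^ k * 1 := congrArg Prod.fst hk
    rw [mul_one] at h2
    exact two_pow_ne_zero h.hN hn2 _ h2.symm
  exact Subgroup.pointwise_smul_le_pointwise_smul_iff.1 hZX

end typeZ

end Cfsg.Agent.Omega.NO3S.B3
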