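import Cfsg.Agent.Omega.NO3S.B3.Ch
import Cfsg.Agent.Omega.BTwo.QuadMod
import Cfsg.Agent.GTwoFour.Tools

/-!
# The partner statement for quadratic actions (section 7 of THEOREM B3, #12862)

`U₁ / D`, `U₂ / D` are the two "halves" of a quadratic module for `SL₂(F) = ⟨w₁ F, w₂ F⟩` (`BTwo.QuadMod`), and
`T` acts: `t w₁(a) t⁻¹ ≡ w₁(ρ(t) a)`.  Then `T` acts `F`-linearly on `M = U₁ / D = U₂ / D`, a weight `ψ` of
`U₂ / D` gives the weight `ρ ψ` of `U₁ / D`, and `ψ · ρψ` is trivial on the `t` acting as `h(a) ∈ SL₂(F)`.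
-/

set_option autoImplicit false
set_option linter.unusedSectionVars false

namespace Cfsg.Agent.Omega.NO3S.B3

open Subgroup Cfsg.Agent.Omega.BTwo
open scoped Pointwise

universe u v

variable {G : Type u} [Group G] {F : Type v} [Field F]

section core

variable {D U1 U2 : Subgroup G} {w1 w2 : F → G} {M : Type u} [AddCommGroup M] [Module F M] {p1 p2 : G → M}

theorem YMod.one1 (y : YMod D U1 U2 w1 w2 M p1 p2) : p1 1 = 0 := by
  have := y.mul1 1 U1.one_mem 1 U1.one_mem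
  rw [mul_one] at this
  exact left_eq_add.1 this

theorem YMod.one2 (y : YMod D U1 U2 w1 w2 M p1 p2) : p2 1 = 0 := by
  have := y.mul2 1 U2.one_mem 1 U2.one_mem
  rw [mul_one] at this
  exact left_eq_add.1 this

theorem YMod.congr1 (y : YMod D U1 U2 w1 w2 M p1 p2) {x x' : G} (hx : x ∈ U1) (hx' : x' ∈ U1) :
    p1 x = p1 x' ↔ x * x'⁻¹ ∈ D := by
  rw [← y.ker1 _ (U1.mul_mem hx (U1.inv_mem hx')), y.mul1 _ hx _ (U1.inv_mem hx')]
  have h1 := y.mul1 x' hx' x'⁻¹ (U1.inv_mem hx')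
  rw [mul_inv_cancel, YMod.one1 y] at h1
  rw [eq_neg_of_add_eq_zero_right h1.symm, ← sub_eq_add_neg, sub_eq_zero]

theorem YMod.congr2 (y : YMod D U1 U2 w1 w2 M p1 p2) {x x' : G} (hx : x ∈ U2) (hx' : x' ∈ U2) :
    p2 x = p2 x' ↔ x * x'⁻¹ ∈ D := by
  rw [← y.ker2 _ (U2.mul_mem hx (U2.inv_mem hx')), y.mul2 _ hx _ (U2.inv_mem hx')]
  have h1 := y.mul2 x' hx' x'⁻¹ (U2.inv_mem hx')
  rw [mul_inv_cancel, YMod.one2 y] at h1
  rw [eq_neg_of_add_eq_zero_right h1.symm, ← sub_eq_add_neg, sub_eq_zero]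

/-- `n(a)` on `U₂` -/
theorem QuadMod.nn2 (q : QuadMod D U1 U2 w1 w2) {a : F} (ha : a ≠ 0) {x : G} (hx : x ∈ U2) :
    (nn w1 w2 a * x * (nn w1 w2 a)⁻¹) * (w1 a * x * (w1 a)⁻¹ * x⁻¹)⁻¹ ∈ D := by
  have hb : bar D x ∈ barS U2 q.N2 := ⟨x, hx, rfl⟩
  have h1 := q.quadEx.nn_conj2' a ha ⟨_, hb⟩
  have h2 : nn (fun a => bar D (w1 a)) (fun a => bar D (w2 a)) a * bar D x *
      (nn (fun a => bar D (w1 a)) (fun a => bar D (w2 a)) a)⁻¹ =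
      bar D (w1 a) * bar D x * (bar D (w1 a))⁻¹ * (bar D x)⁻¹ := h1
  rw [← q.bar_nn, ← bar_conj (q.nn_mem a) (q.N2 hx), ← bar_comm (q.K1 a) (q.N2 hx)] at h2
  exact (bar_eq_iff (mul_mem (mul_mem (q.nn_mem a) (q.N2 hx)) (inv_mem (q.nn_mem a)))
    (mul_mem (mul_mem (mul_mem (q.K1 a) (q.N2 hx)) (inv_mem (q.K1 a))) (inv_mem (q.N2 hx)))).1 h2

/-- `n(a)` on `U₁` -/
theorem QuadMod.nn1 (q : QuadMod D U1 U2 w1 w2) {a : F} (ha : a ≠ 0) {x : G} (hx : x ∈ U1) :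
    (nn w1 w2 a * x * (nn w1 w2 a)⁻¹) * (w2 a⁻¹ * x * (w2 a⁻¹)⁻¹ * x⁻¹)⁻¹ ∈ D := by
  have hb : bar D x ∈ barS U1 q.N1 := ⟨x, hx, rfl⟩
  have h1 := q.quadEx.nn_conj1' a ha ⟨_, hb⟩
  have h2 : nn (fun a => bar D (w1 a)) (fun a => bar D (w2 a)) a * bar D x *
      (nn (fun a => bar D (w1 a)) (fun a => bar D (w2 a)) a)⁻¹ =
      bar D (w2 a⁻¹) * bar D x * (bar D (w2 a⁻¹))⁻¹ * (bar D x)⁻¹ := h1
  rw [← q.bar_nn, ← bar_conj (q.nn_mem a) (q.N1 hx), ← bar_comm (q.K2 _) (q.N1 hx)] at h2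
  exact (bar_eq_iff (mul_mem (mul_mem (q.nn_mem a) (q.N1 hx)) (inv_mem (q.nn_mem a)))
    (mul_mem (mul_mem (mul_mem (q.K2 _) (q.N1 hx)) (inv_mem (q.K2 _))) (inv_mem (q.N1 hx)))).1 h2

theorem QuadMod.p_nn2 (q : QuadMod D U1 U2 w1 w2) (y : YMod D U1 U2 w1 w2 M p1 p2) {a : F} (ha : a ≠ 0)
    {x : G} (hx : x ∈ U2) : p1 (nn w1 w2 a * x * (nn w1 w2 a)⁻¹) = a • p2 x := by
  rw [← y.act12 a x hx]
  exact (YMod.congr1 y (q.n21 a ha x hx) (q.m1 a x hx)).2 (QuadMod.nn2 q ha hx)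

theorem QuadMod.p_nn1 (q : QuadMod D U1 U2 w1 w2) (y : YMod D U1 U2 w1 w2 M p1 p2) {a : F} (ha : a ≠ 0)
    {x : G} (hx : x ∈ U1) : p2 (nn w1 w2 a * x * (nn w1 w2 a)⁻¹) = a⁻¹ • p1 x := by
  rw [← y.act21 a⁻¹ x hx]
  exact (YMod.congr2 y (q.n12 a ha x hx) (q.m2 _ x hx)).2 (QuadMod.nn1 q ha hx)

/-- `h(a)` acts as `a` on `U₁` -/
theorem QuadMod.p_hh1 (q : QuadMod D U1 U2 w1 w2) (y : YMod D U1 U2 w1 w2 M p1 p2) {a : F} (ha : a ≠ 0)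
    {x : G} (hx : x ∈ U1) : p1 (hh w1 w2 a * x * (hh w1 w2 a)⁻¹) = a • p1 x := by
  have e : hh w1 w2 a * x * (hh w1 w2 a)⁻¹ =
      nn w1 w2 a * (nn w1 w2 1 * x * (nn w1 w2 1)⁻¹) * (nn w1 w2 a)⁻¹ := by unfold hh; group
  rw [e, QuadMod.p_nn2 q y ha (q.n12 1 one_ne_zero x hx), QuadMod.p_nn1 q y one_ne_zero hx, inv_one, one_smul]

/-- `h(a)` acts as `a⁻¹` on `U₂` -/
theorem QuadMod.p_hh2 (q : QuadMod D U1 U2 w1 w2) (y : YMod D U1 U2 w1 w2 M p1 p2) {a : F} (ha : a ≠ 0)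
    {x : G} (hx : x ∈ U2) : p2 (hh w1 w2 a * x * (hh w1 w2 a)⁻¹) = a⁻¹ • p2 x := by
  have e : hh w1 w2 a * x * (hh w1 w2 a)⁻¹ =
      nn w1 w2 a * (nn w1 w2 1 * x * (nn w1 w2 1)⁻¹) * (nn w1 w2 a)⁻¹ := by unfold hh; group
  rw [e, QuadMod.p_nn1 q y ha (q.n21 1 one_ne_zero x hx), QuadMod.p_nn2 q y one_ne_zero hx, one_smul]

end core

/-- `T` acts on the quadratic situation; `t w₁(a) t⁻¹ ≡ w₁(ρ(t) a)`. -/
structure TQuad (T : Subgroup G) (ρ : T →* Fˣ) (D U1 U2 : Subgroup G) (w1 w2 : F → G) : Prop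
    extends QuadMod D U1 U2 w1 w2 where
  TD : T ≤ normalizer (D : Set G)
  T1 : T ≤ normalizer (U1 : Set G)
  T2 : T ≤ normalizer (U2 : Set G)
  eqv : ∀ (t : T) (a : F), ∀ x ∈ U2,
    (((t : G) * w1 a * (t : G)⁻¹) * x * ((t : G) * w1 a * (t : G)⁻¹)⁻¹) *
      (w1 ((ρ t : F) * a) * x * (w1 ((ρ t : F) * a))⁻¹)⁻¹ ∈ D

section tquad

variable {T : Subgroup G} {ρ : T →* Fˣ} {D U1 U2 : Subgroup G} {w1 w2 : F → G}
  {M : Type u} [AddCommGroup M] [Module F M] {p1 p2 : G → M}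

theorem conj_mem_of {T A : Subgroup G} (h : T ≤ normalizer (A : Set G)) (t : T) {x : G} (hx : x ∈ A) :
    (t : G) * x * (t : G)⁻¹ ∈ A := (mem_normalizer_iff.1 (h t.2) x).1 hx

theorem TQuad.p_comm (h : TQuad T ρ D U1 U2 w1 w2) (y : YMod D U1 U2 w1 w2 M p1 p2) (t : T) (a : F) {x : G}
    (hx : x ∈ U2) :
    p1 ((t : G) * (w1 a * x * (w1 a)⁻¹ * x⁻¹) * (t : G)⁻¹) =
      ((ρ t : F) * a) • p2 ((t : G) * x * (t : G)⁻¹) := by
  have hx' := conj_mem_of h.T2 t hx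
  rw [← y.act12 _ _ hx']
  refine (YMod.congr1 y (conj_mem_of h.T1 t (h.m1 a x hx)) (h.m1 _ _ hx')).2 ?_
  have h1 := h.eqv t a _ hx'
  have e : (t : G) * (w1 a * x * (w1 a)⁻¹ * x⁻¹) * (t : G)⁻¹ *
      (w1 ((ρ t : F) * a) * ((t : G) * x * (t : G)⁻¹) * (w1 ((ρ t : F) * a))⁻¹ *
        ((t : G) * x * (t : G)⁻¹)⁻¹)⁻¹ =
      (((t : G) * w1 a * (t : G)⁻¹) * ((t : G) * x * (t : G)⁻¹) * ((t : G) * w1 a * (t : G)⁻¹)⁻¹) *
      (w1 ((ρ t : F) * a) * ((t : G) * x * (t : G)⁻¹) * (w1 ((ρ t : F) * a))⁻¹)⁻¹ := by group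
  rw [e]
  exact h1

/-- `T` acts `F`-linearly on `U₂ / D`. -/
theorem TQuad.lin (h : TQuad T ρ D U1 U2 w1 w2) (y : YMod D U1 U2 w1 w2 M p1 p2) (t : T) {a : F} {x x' : G}
    (hx : x ∈ U2) (hx' : x' ∈ U2) (e : p2 x' = a • p2 x) :
    p2 ((t : G) * x' * (t : G)⁻¹) = a • p2 ((t : G) * x * (t : G)⁻¹) := by
  have h1 := TQuad.p_comm h y t 1 hx'
  have h2 := TQuad.p_comm h y t a hx
  have h3 : p1 (w1 1 * x' * (w1 1)⁻¹ * x'⁻¹) = p1 (w1 a * x * (w1 a)⁻¹ * x⁻¹) := by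
    rw [y.act12 1 x' hx', y.act12 a x hx, one_smul, e]
  rw [YMod.congr1 y (h.m1 _ _ hx') (h.m1 _ _ hx)] at h3
  have h4 := conj_mem_of h.TD t h3
  have h5 : p1 ((t : G) * (w1 1 * x' * (w1 1)⁻¹ * x'⁻¹) * (t : G)⁻¹) =
      p1 ((t : G) * (w1 a * x * (w1 a)⁻¹ * x⁻¹) * (t : G)⁻¹) := by
    refine (YMod.congr1 y (conj_mem_of h.T1 t (h.m1 _ _ hx')) (conj_mem_of h.T1 t (h.m1 _ _ hx))).2 ?_
    have e' : (t : G) * (w1 1 * x' * (w1 1)⁻¹ * x'⁻¹) * (t : G)⁻¹ *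
        ((t : G) * (w1 a * x * (w1 a)⁻¹ * x⁻¹) * (t : G)⁻¹)⁻¹ =
        (t : G) * ((w1 1 * x' * (w1 1)⁻¹ * x'⁻¹) * (w1 a * x * (w1 a)⁻¹ * x⁻¹)⁻¹) * (t : G)⁻¹ := by group
    rw [e']
    exact h4
  rw [h1, h2, mul_one, mul_smul] at h5
  have h6 := congrArg (fun m => ((ρ t)⁻¹ : Fˣ) • m) h5
  simp only [Units.smul_def, smul_smul, Units.inv_mul, one_smul] at h6
  rwa [Units.inv_mul_cancel_left] at h6

theorem mem_norm_of [Finite G] {g : G} {A : Subgroup G} (h : ∀ a ∈ A, g * a * g⁻¹ ∈ A) :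
    g ∈ normalizer (A : Set G) := mem_normalizer_fintype h

theorem conj_sup_le [Finite G] {g : G} {A B : Subgroup G} (hA : ∀ a ∈ A, g * a * g⁻¹ ∈ A ⊔ B)
    (hB : ∀ a ∈ B, g * a * g⁻¹ ∈ A ⊔ B) : g ∈ normalizer ((A ⊔ B : Subgroup G) : Set G) := by
  refine mem_norm_of fun a ha => ?_
  have h1 : A ⊔ B ≤ (A ⊔ B).comap (MulAut.conj g).toMonoidHom := by
    refine sup_le (fun a ha => ?_) fun a ha => ?_
    · exact hA a ha
    · exact hB a ha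
  exact h1 ha

/-- **The weights of an irreducible quadratic situation.** -/
theorem TQuad.main [Finite G] [Finite F] [CharP F 2] (h : TQuad T ρ D U1 U2 w1 w2)
    (hc : ∀ s t : T, s * t = t * s) (he : ∀ t : T, t ^ (Nat.card F - 1) = 1) (hne : ¬ U2 ≤ D)
    (hirr : ∀ X : Subgroup G, D ≤ X → X ≤ U1 ⊔ U2 → T ≤ normalizer (X : Set G) →
      (∀ a, w1 a ∈ normalizer (X : Set G)) → (∀ a, w2 a ∈ normalizer (X : Set G)) →
        X ≤ D ∨ U1 ⊔ U2 ≤ X) :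
    ∃ ψ : T →* Fˣ, Emb T ψ U2 D ∧ Emb T (ρ * ψ) U1 D ∧ HasWt T ψ U2 D ∧ HasWt T (ρ * ψ) U1 D ∧
      ∀ (t : T) (a : F), a ≠ 0 →
        (∀ x ∈ U1, ((t : G) * x * (t : G)⁻¹) * (hh w1 w2 a * x * (hh w1 w2 a)⁻¹)⁻¹ ∈ D) →
        (∀ x ∈ U2, ((t : G) * x * (t : G)⁻¹) * (hh w1 w2 a * x * (hh w1 w2 a)⁻¹)⁻¹ ∈ D) →
          ψ t * (ρ * ψ) t = 1 := by
  classical
  have : Fintype F := Fintype.ofFinite F
  have hperf : ∀ a : F, ∃ b, b ^ 2 = a := by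
    intro a
    obtain ⟨b, hb⟩ := (bijective_frobenius F 2).2 a
    exact ⟨b, hb⟩
  obtain ⟨M, i1, i2, p1, p2, y⟩ := h.toQuadMod.exists_yMod hperf
  -- the linear functions on `U₂ / D`
  let E₀ : Submodule F (G → F) :=
    { carrier := {f | (∀ g, g ∉ U2 → f g = 0) ∧ (∀ a ∈ U2, ∀ b ∈ U2, f (a * b) = f a + f b) ∧
        ∀ x ∈ U2, ∀ x' ∈ U2, ∀ a : F, p2 x' = a • p2 x → f x' = a * f x}
      add_mem' := by
        rintro f g ⟨f1, f2, f3⟩ ⟨g1, g2, g3⟩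
        refine ⟨fun a ha => ?_, fun a ha b hb => ?_, fun x hx x' hx' a e => ?_⟩
        · simp only [Pi.add_apply]
          rw [f1 a ha, g1 a ha, add_zero]
        · simp only [Pi.add_apply]
          rw [f2 a ha b hb, g2 a ha b hb]; ring
        · simp only [Pi.add_apply]
          rw [f3 x hx x' hx' a e, g3 x hx x' hx' a e]; ring
      zero_mem' := ⟨fun _ _ => rfl, fun _ _ _ _ => by simp, fun _ _ _ _ _ _ => by simp⟩
      smul_mem' := by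
        rintro c f ⟨f1, f2, f3⟩
        refine ⟨fun a ha => ?_, fun a ha b hb => ?_, fun x hx x' hx' a e => ?_⟩
        · simp only [Pi.smul_apply, smul_eq_mul]
          rw [f1 a ha, mul_zero]
        · simp only [Pi.smul_apply, smul_eq_mul]
          rw [f2 a ha b hb]; ring
        · simp only [Pi.smul_apply, smul_eq_mul]
          rw [f3 x hx x' hx' a e]; ring }
  have hT2 : ∀ (t : T) (g : G), (t : G) * g * (t : G)⁻¹ ∈ U2 ↔ g ∈ U2 := fun t g =>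
    (mem_normalizer_iff.1 (h.T2 t.2) g).symm
  have hinv : ∀ t : T, ∀ f ∈ E₀, tau F (t : G) f ∈ E₀ := by
    rintro t f ⟨f1, f2, f3⟩
    refine ⟨fun a ha => ?_, fun a ha b hb => ?_, fun x hx x' hx' a e => ?_⟩
    · rw [tau_apply]
      exact f1 _ fun h => ha ((hT2 t a).1 h)
    · rw [tau_apply, tau_apply, tau_apply, ← f2 _ ((hT2 t a).2 ha) _ ((hT2 t b).2 hb)]
      congr 1; group
    · rw [tau_apply, tau_apply]
      exact f3 _ ((hT2 t x).2 hx) _ ((hT2 t x').2 hx') a (TQuad.lin h y t hx hx' e)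
  have h0 : E₀ ≠ ⊥ := by
    obtain ⟨x, hx, hxD⟩ := Set.not_subset.1 hne
    have hpx : p2 x ≠ 0 := fun h1 => hxD ((y.ker2 x hx).1 h1)
    obtain ⟨l, hl⟩ : ∃ l : Module.Dual F M, l (p2 x) ≠ 0 := by
      by_contra hcon
      push Not at hcon
      exact hpx ((Module.forall_dual_apply_eq_zero_iff F _).1 hcon)
    let f : G → F := fun g => if g ∈ U2 then l (p2 g) else 0
    have hf : ∀ g ∈ U2, f g = l (p2 g) := fun g hg => if_pos hg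
    have hfE : f ∈ E₀ := by
      refine ⟨fun g hg => if_neg hg, fun a ha b hb => ?_, fun x hx x' hx' a e => ?_⟩
      · rw [hf a ha, hf b hb, hf _ (U2.mul_mem ha hb), y.mul2 a ha b hb, map_add]
      · rw [hf x hx, hf x' hx', e, map_smul, smul_eq_mul]
    intro h1
    rw [h1, Submodule.mem_bot] at hfE
    have := hf x hx
    rw [hfE] at this
    exact hl this.symm
  obtain ⟨ψ, f, ⟨f0, fadd, flin⟩, hf0, hψ⟩ := exists_eigen (T := T) h0 hinv hc he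
  obtain ⟨x₀, hx₀, hfx₀⟩ : ∃ x ∈ U2, f x ≠ 0 := by
    by_contra hcon
    push Not at hcon
    apply hf0
    funext g
    by_cases hg : g ∈ U2
    · exact hcon g hg
    · exact f0 g hg
  have fcongr : ∀ x ∈ U2, ∀ x' ∈ U2, p2 x = p2 x' → f x = f x' := by
    intro x hx x' hx' e
    have := flin x' hx' x hx 1 (by rw [one_smul, e])
    rwa [one_mul] at this
  have fD : ∀ x ∈ D, f x = 0 := by
    intro x hx
    have := flin x₀ hx₀ x (h.D2 hx) 0 (by rw [zero_smul]; exact (y.ker2 x (h.D2 hx)).2 hx)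
    rwa [zero_mul] at this
  -- the function on `U₁`
  choose σ hσ1 hσ2 using y.surj2
  let f1 : G → F := fun g => f (σ (p1 g))
  have hf1 : ∀ g, ∀ x ∈ U2, p2 x = p1 g → f1 g = f x := by
    intro g x hx e
    exact fcongr _ (hσ1 _) _ hx (by rw [hσ2, e])
  have f1add : ∀ a ∈ U1, ∀ b ∈ U1, f1 (a * b) = f1 a + f1 b := by
    intro a ha b hb
    rw [hf1 (a * b) (σ (p1 a) * σ (p1 b)) (U2.mul_mem (hσ1 _) (hσ1 _))
      (by rw [y.mul2 _ (hσ1 _) _ (hσ1 _), hσ2, hσ2, y.mul1 a ha b hb]), fadd _ (hσ1 _) _ (hσ1 _)]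
  have f1eqv : ∀ t : T, ∀ a ∈ U1, f1 ((t : G) * a * (t : G)⁻¹) = (((ρ * ψ) t : Fˣ) : F) * f1 a := by
    intro t a ha
    set x := σ (p1 a) with hx
    have hxU : x ∈ U2 := hσ1 _
    have hpx : p2 x = p1 a := hσ2 _
    have h1 := TQuad.p_comm h y t 1 hxU
    have h2 : p1 a = p1 (w1 1 * x * (w1 1)⁻¹ * x⁻¹) := by rw [y.act12 1 x hxU, one_smul, hpx]
    have h3 : p1 ((t : G) * a * (t : G)⁻¹) =
        p1 ((t : G) * (w1 1 * x * (w1 1)⁻¹ * x⁻¹) * (t : G)⁻¹) := by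
      refine (YMod.congr1 y (conj_mem_of h.T1 t ha) (conj_mem_of h.T1 t (h.m1 _ _ hxU))).2 ?_
      have h4 := conj_mem_of h.TD t ((YMod.congr1 y ha (h.m1 _ _ hxU)).1 h2)
      have e' : (t : G) * a * (t : G)⁻¹ * ((t : G) * (w1 1 * x * (w1 1)⁻¹ * x⁻¹) * (t : G)⁻¹)⁻¹ =
        (t : G) * (a * (w1 1 * x * (w1 1)⁻¹ * x⁻¹)⁻¹) * (t : G)⁻¹ := by group
      rw [e']
      exact h4
    rw [h1, mul_one] at h3
    -- choose the representative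
    have h5 : f1 ((t : G) * a * (t : G)⁻¹) = f (σ ((ρ t : F) • p2 ((t : G) * x * (t : G)⁻¹))) := by
      change f (σ (p1 ((t : G) * a * (t : G)⁻¹))) = _
      rw [h3]
    rw [h5, flin ((t : G) * x * (t : G)⁻¹) ((hT2 t x).2 hxU) _ (hσ1 _) (ρ t : F) (hσ2 _), hψ t x,
      MonoidHom.mul_apply, Units.val_mul, mul_assoc]
  have f1D : ∀ x ∈ D, f1 x = 0 := by
    intro x hx
    rw [hf1 x 1 U2.one_mem (by rw [YMod.one2 y, (y.ker1 x (h.D1 hx)).2 hx])]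
    exact fD 1 D.one_mem
  -- the invariant subgroup
  let K1 : Subgroup G :=
    { carrier := {g | g ∈ U1 ∧ f1 g = 0}
      one_mem' := ⟨U1.one_mem, f1D 1 D.one_mem⟩
      mul_mem' := fun {a b} ha hb => ⟨U1.mul_mem ha.1 hb.1, by rw [f1add a ha.1 b hb.1, ha.2, hb.2, add_zero]⟩
      inv_mem' := fun {a} ha => by
        refine ⟨U1.inv_mem ha.1, ?_⟩
        have := f1add a ha.1 a⁻¹ (U1.inv_mem ha.1)
        rw [mul_inv_cancel, f1D 1 D.one_mem, ha.2, zero_add] at this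
        exact this.symm }
  let K2 : Subgroup G :=
    { carrier := {g | g ∈ U2 ∧ f g = 0}
      one_mem' := ⟨U2.one_mem, fD 1 D.one_mem⟩
      mul_mem' := fun {a b} ha hb => ⟨U2.mul_mem ha.1 hb.1, by rw [fadd a ha.1 b hb.1, ha.2, hb.2, add_zero]⟩
      inv_mem' := fun {a} ha => by
        refine ⟨U2.inv_mem ha.1, ?_⟩
        have := fadd a ha.1 a⁻¹ (U2.inv_mem ha.1)
        rw [mul_inv_cancel, fD 1 D.one_mem, ha.2, zero_add] at this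
        exact this.symm }
  have hK1 : ∀ g, g ∈ K1 ↔ g ∈ U1 ∧ f1 g = 0 := fun _ => Iff.rfl
  have hK2 : ∀ g, g ∈ K2 ↔ g ∈ U2 ∧ f g = 0 := fun _ => Iff.rfl
  have hDK1 : D ≤ K1 := fun x hx => ⟨h.D1 hx, f1D x hx⟩
  have hDK2 : D ≤ K2 := fun x hx => ⟨h.D2 hx, fD x hx⟩
  have hX := hirr (K1 ⊔ K2) (hDK1.trans le_sup_left)
    (sup_le_sup (fun x hx => hx.1) fun x hx => hx.1) ?_ ?_ ?_
  · have hKD : K1 ⊔ K2 ≤ D := by
      refine hX.resolve_right fun hle => ?_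
      have h1 : x₀ ∈ K1 ⊔ K2 := hle (mem_sup_right hx₀)
      have hN : K2 ≤ normalizer (K1 : Set G) := by
        intro b hb
        refine mem_norm_of fun a ha => ?_
        have h2 : b * a * b⁻¹ = (a * b * a⁻¹ * b⁻¹)⁻¹ * a := by group
        rw [h2]
        exact K1.mul_mem (K1.inv_mem (hDK1 (h.comm12 a ha.1 b hb.1))) ha
      rw [sup_comm] at h1
      obtain ⟨b, hb, a, ha, e⟩ := mem_sup_of_le_norm hN h1
      have h2 : a = b⁻¹ * x₀ := by rw [e]; group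
      have h3 : a ∈ D := h.inf a ha.1 (by rw [h2]; exact U2.mul_mem (U2.inv_mem hb.1) hx₀)
      apply hfx₀
      rw [e, fadd b hb.1 a (h.D2 h3), hb.2, fD a h3, add_zero]
    refine ⟨ψ, ⟨f, fadd, fun t a _ => hψ t a, fun a ha h1 => hKD (mem_sup_right ⟨ha, h1⟩)⟩,
      ⟨f1, f1add, f1eqv, fun a ha h1 => hKD (mem_sup_left ⟨ha, h1⟩)⟩,
      ⟨U2, f, le_rfl, fun t a ha => (hT2 t a).2 ha, fadd, fun a _ ha => fD a ha, fun t a _ => hψ t a,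
        x₀, hx₀, hfx₀⟩, ?_, ?_⟩
    · obtain ⟨z, hz, hpz⟩ := y.surj1 (p2 x₀)
      refine ⟨U1, f1, le_rfl, fun t a ha => conj_mem_of h.T1 t ha, f1add, fun a _ ha => f1D a ha, f1eqv,
        z, hz, ?_⟩
      rw [hf1 z x₀ hx₀ hpz.symm]
      exact hfx₀
    · intro t a ha h1 h2
      have e2 : (ψ t : F) = a⁻¹ := by
        have h3 := h2 x₀ hx₀
        have hh2 : hh w1 w2 a * x₀ * (hh w1 w2 a)⁻¹ ∈ U2 := by
          have e : hh w1 w2 a * x₀ * (hh w1 w2 a)⁻¹ =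
            nn w1 w2 a * (nn w1 w2 1 * x₀ * (nn w1 w2 1)⁻¹) * (nn w1 w2 a)⁻¹ := by unfold hh; group
          rw [e]
          exact h.n12 a ha _ (h.n21 1 one_ne_zero _ hx₀)
        have h4 := (YMod.congr2 y ((hT2 t x₀).2 hx₀) hh2).2 h3
        rw [QuadMod.p_hh2 h.toQuadMod y ha hx₀] at h4
        have h5 := flin x₀ hx₀ _ ((hT2 t x₀).2 hx₀) a⁻¹ h4
        rw [hψ t x₀] at h5
        exact mul_right_cancel₀ hfx₀ h5
      have e1 : (((ρ * ψ) t : Fˣ) : F) = a := by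
        obtain ⟨z, hz, hpz⟩ := y.surj1 (p2 x₀)
        have hfz : f1 z ≠ 0 := by rw [hf1 z x₀ hx₀ hpz.symm]; exact hfx₀
        have h3 := h1 z hz
        have hh1 : hh w1 w2 a * z * (hh w1 w2 a)⁻¹ ∈ U1 := by
          have e : hh w1 w2 a * z * (hh w1 w2 a)⁻¹ =
            nn w1 w2 a * (nn w1 w2 1 * z * (nn w1 w2 1)⁻¹) * (nn w1 w2 a)⁻¹ := by unfold hh; group
          rw [e]
          exact h.n21 a ha _ (h.n12 1 one_ne_zero _ hz)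
        have h4 := (YMod.congr1 y (conj_mem_of h.T1 t hz) hh1).2 h3
        rw [QuadMod.p_hh1 h.toQuadMod y ha hz] at h4
        have h5 := f1eqv t z hz
        have h6 : f1 ((t : G) * z * (t : G)⁻¹) = a * f1 z := by
          have h7 : f1 ((t : G) * z * (t : G)⁻¹) = f (σ (a • p1 z)) := by
            change f (σ (p1 ((t : G) * z * (t : G)⁻¹))) = _
            rw [h4]
          rw [h7]
          exact flin (σ (p1 z)) (hσ1 _) _ (hσ1 _) a (by rw [hσ2, hσ2])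
        rw [h6] at h5
        exact (mul_right_cancel₀ hfz h5).symm
      apply Units.ext
      rw [Units.val_mul, e1, e2, inv_mul_cancel₀ ha, Units.val_one]
  · -- invariance under `T`
    intro t ht
    refine conj_sup_le (fun a ha => mem_sup_left ?_) fun a ha => mem_sup_right ?_
    · have h1 := f1eqv ⟨t, ht⟩ a ha.1
      exact ⟨conj_mem_of h.T1 ⟨t, ht⟩ ha.1, by rw [h1, ha.2, mul_zero]⟩
    · have h1 := hψ ⟨t, ht⟩ a
      exact ⟨conj_mem_of h.T2 ⟨t, ht⟩ ha.1, by rw [h1, ha.2, mul_zero]⟩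
  · intro a
    refine conj_sup_le (fun x hx => mem_sup_left ?_) fun x hx => ?_
    · have e : w1 a * x * (w1 a)⁻¹ = (w1 a * x * (w1 a)⁻¹ * x⁻¹) * x := by group
      rw [e]
      exact K1.mul_mem (hDK1 (h.c1 a x hx.1)) hx
    · have e : w1 a * x * (w1 a)⁻¹ = (w1 a * x * (w1 a)⁻¹ * x⁻¹) * x := by group
      rw [e]
      refine mul_mem (mem_sup_left ⟨h.m1 a x hx.1, ?_⟩) (mem_sup_right hx)
      change f (σ (p1 (w1 a * x * (w1 a)⁻¹ * x⁻¹))) = 0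
      rw [flin x hx.1 _ (hσ1 _) a (by rw [hσ2, y.act12 a x hx.1]), hx.2, mul_zero]
  · intro a
    refine conj_sup_le (fun x hx => ?_) fun x hx => mem_sup_right ?_
    · have e : w2 a * x * (w2 a)⁻¹ = (w2 a * x * (w2 a)⁻¹ * x⁻¹) * x := by group
      rw [e]
      refine mul_mem (mem_sup_right ⟨h.m2 a x hx.1, ?_⟩) (mem_sup_left hx)
      have h1 : f (w2 a * x * (w2 a)⁻¹ * x⁻¹) = a * f (σ (p1 x)) :=
        flin (σ (p1 x)) (hσ1 _) _ (h.m2 a x hx.1) a (by rw [hσ2, y.act21 a x hx.1])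
      rw [h1]
      have h2 : f (σ (p1 x)) = 0 := hx.2
      rw [h2, mul_zero]
    · have e : w2 a * x * (w2 a)⁻¹ = (w2 a * x * (w2 a)⁻¹ * x⁻¹) * x := by group
      rw [e]
      exact K2.mul_mem (hDK2 (h.c2 a x hx.1)) hx

end tquad

end Cfsg.Agent.Omega.NO3S.B3
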