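import Cfsg.Agent.Omega.NO3S.B3.Quad

/-!
# The field `quad` of `TypeS` (section 7 of THEOREM B3, #12862)

`A₁ = W_y`, `A₂ = W_y^w`, modulo `R = Q = O₂(P₂)` they are opposite root groups of `SL₂(F)`, `T` acts on them.
`C / W` is a section of `Q` normalised by everything on which `A₁`, `A₂` act quadratically
(`[C, A_i] ≤ A_i` abelian). `concl`: every `T`-weight of `C / W` is trivial on `K = ker α`, or a weight of `A₁`,
or has a partner which is a weight of `A₁`.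
-/

set_option autoImplicit false
set_option linter.unusedSectionVars false

namespace Cfsg.Agent.Omega.NO3S.B3

open Subgroup Cfsg.Agent.Omega.BTwo
open scoped Pointwise commutatorElement

universe u v

variable {G : Type u} [Group G] {F : Type v} [Field F]

/-- `A₁ R / R`, `A₂ R / R` are opposite root groups of `SL₂(F)`, with `T` acting. -/
structure SLAct (T : Subgroup G) (α ρ : T →* Fˣ) (R A1 A2 : Subgroup G) (w1 w2 : F → G) : Prop where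
  w1A : ∀ a, w1 a ∈ A1
  w2A : ∀ a, w2 a ∈ A2
  rep1 : ∀ x ∈ A1, ∃ a, x * (w1 a)⁻¹ ∈ R
  rep2 : ∀ x ∈ A2, ∃ a, x * (w2 a)⁻¹ ∈ R
  NT1 : T ≤ normalizer (A1 : Set G)
  NT2 : T ≤ normalizer (A2 : Set G)
  NTR : T ≤ normalizer (R : Set G)
  N1R : A1 ≤ normalizer (R : Set G)
  N2R : A2 ≤ normalizer (R : Set G)
  ab1 : ∀ x ∈ A1, ∀ y ∈ A1, x * y = y * x
  ab2 : ∀ x ∈ A2, ∀ y ∈ A2, x * y = y * x
  add : ∀ a b, w1 (a + b) * (w1 a * w1 b)⁻¹ ∈ R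
  zero : w2 0 ∈ R
  nn1 : ∀ a, a ≠ 0 → ∀ y ∈ A1, (nn w1 w2 a)⁻¹ * y * nn w1 w2 a ∈ A2 ⊔ R
  nn2 : ∀ a, a ≠ 0 → ∀ y ∈ A2, (nn w1 w2 a)⁻¹ * y * nn w1 w2 a ∈ A1 ⊔ R
  tor : ∀ a, a ≠ 0 → ∀ b, (hh w1 w2 a * w1 b * (hh w1 w2 a)⁻¹) * (w1 (a ^ 2 * b))⁻¹ ∈ R
  eqv : ∀ (t : T) (a : F), ((t : G) * w1 a * (t : G)⁻¹) * (w1 ((ρ t : F) * a))⁻¹ ∈ R
  tK : ∀ t : T, α t = 1 → ∃ a, a ≠ 0 ∧ (t : G) * (hh w1 w2 a)⁻¹ ∈ R

/-- normalised by everything -/
structure Inv (T R A1 A2 X : Subgroup G) : Prop where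
  T : T ≤ normalizer (X : Set G)
  R : R ≤ normalizer (X : Set G)
  one : A1 ≤ normalizer (X : Set G)
  two : A2 ≤ normalizer (X : Set G)

/-- An irreducible section `X / Y` for `⟨T, A₁, A₂⟩`, trivial for `R`. -/
structure Irr (T R A1 A2 : Subgroup G) (w1 w2 : F → G) (X Y : Subgroup G) : Prop where
  IX : Inv T R A1 A2 X
  IY : Inv T R A1 A2 Y
  YX : Y ≤ X
  ne : ¬ X ≤ Y
  XR : X ≤ R
  triv : ∀ r ∈ R, ∀ x ∈ X, r * x * r⁻¹ * x⁻¹ ∈ Y
  XA1 : X ≤ normalizer (A1 : Set G)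
  XA2 : X ≤ normalizer (A2 : Set G)
  irr : ∀ B : Subgroup G, Y ≤ B → B ≤ X → T ≤ normalizer (B : Set G) →
      (∀ a, w1 a ∈ normalizer (B : Set G)) → (∀ a, w2 a ∈ normalizer (B : Set G)) → B ≤ Y ∨ X ≤ B

/-- `C_X(A mod Y)` -/
def cx (X Y A : Subgroup G) (h : X ≤ normalizer (Y : Set G)) (_ : A ≤ normalizer (Y : Set G)) : Subgroup G where
  carrier := {x | x ∈ X ∧ ∀ g ∈ A, g * x * g⁻¹ * x⁻¹ ∈ Y}
  one_mem' := ⟨X.one_mem, fun g _ => by simp [Y.one_mem]⟩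
  mul_mem' := fun {a b} ha hb => ⟨X.mul_mem ha.1 hb.1, fun g hg => by
    have e : g * (a * b) * g⁻¹ * (a * b)⁻¹ = (g * a * g⁻¹ * a⁻¹) * (a * (g * b * g⁻¹ * b⁻¹) * a⁻¹) := by group
    rw [e]
    exact Y.mul_mem (ha.2 g hg) ((mem_normalizer_iff.1 (h ha.1) _).1 (hb.2 g hg))⟩
  inv_mem' := fun {a} ha => ⟨X.inv_mem ha.1, fun g hg => by
    have e : g * a⁻¹ * g⁻¹ * a⁻¹⁻¹ = a⁻¹ * (a * g * a⁻¹ * g⁻¹) * a⁻¹⁻¹ := by group
    rw [e]
    refine (mem_normalizer_iff.1 (h (X.inv_mem ha.1)) _).1 ?_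
    have e' : a * g * a⁻¹ * g⁻¹ = (g * a * g⁻¹ * a⁻¹)⁻¹ := by group
    rw [e']
    exact Y.inv_mem (ha.2 g hg)⟩

theorem mem_cx {X Y A : Subgroup G} {h : X ≤ normalizer (Y : Set G)} {hA : A ≤ normalizer (Y : Set G)} {x : G} :
    x ∈ cx X Y A h hA ↔ x ∈ X ∧ ∀ g ∈ A, g * x * g⁻¹ * x⁻¹ ∈ Y := Iff.rfl

theorem conj_mem_n {g x : G} {A : Subgroup G} (h : g ∈ normalizer (A : Set G)) (hx : x ∈ A) : g * x * g⁻¹ ∈ A :=
  (mem_normalizer_iff.1 h x).1 hx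

theorem conj_mem_n' {g x : G} {A : Subgroup G} (h : g ∈ normalizer (A : Set G)) (hx : x ∈ A) : g⁻¹ * x * g ∈ A := by
  have := (mem_normalizer_iff.1 (inv_mem h) x).1 hx
  rwa [inv_inv] at this

section irr

variable {T : Subgroup G} {α ρ : T →* Fˣ} {R A1 A2 X Y : Subgroup G} {w1 w2 : F → G}

theorem Irr.XY (i : Irr T R A1 A2 w1 w2 X Y) : X ≤ normalizer (Y : Set G) := i.XR.trans i.IY.R

theorem Irr.congr (i : Irr T R A1 A2 w1 w2 X Y) {g g' : G} (h : g * g'⁻¹ ∈ R)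
    (hg' : g' ∈ normalizer (X : Set G)) {x : G} (hx : x ∈ X) : (g * x * g⁻¹) * (g' * x * g'⁻¹)⁻¹ ∈ Y := by
  have h1 := i.triv _ h _ (conj_mem_n hg' hx)
  have e : (g * x * g⁻¹) * (g' * x * g'⁻¹)⁻¹ =
      (g * g'⁻¹) * (g' * x * g'⁻¹) * (g * g'⁻¹)⁻¹ * (g' * x * g'⁻¹)⁻¹ := by group
  rw [e]
  exact h1

theorem Irr.w1X (i : Irr T R A1 A2 w1 w2 X Y) (s : SLAct T α ρ R A1 A2 w1 w2) (a : F) :
    w1 a ∈ normalizer (X : Set G) := i.IX.one (s.w1A a)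

theorem Irr.w2X (i : Irr T R A1 A2 w1 w2 X Y) (s : SLAct T α ρ R A1 A2 w1 w2) (a : F) :
    w2 a ∈ normalizer (X : Set G) := i.IX.two (s.w2A a)

theorem Irr.nnX (i : Irr T R A1 A2 w1 w2 X Y) (s : SLAct T α ρ R A1 A2 w1 w2) (a : F) :
    nn w1 w2 a ∈ normalizer (X : Set G) := mul_mem (mul_mem (i.w1X s a) (i.w2X s _)) (i.w1X s a)

theorem Irr.nnY (i : Irr T R A1 A2 w1 w2 X Y) (s : SLAct T α ρ R A1 A2 w1 w2) (a : F) :
    nn w1 w2 a ∈ normalizer (Y : Set G) :=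
  mul_mem (mul_mem (i.IY.one (s.w1A a)) (i.IY.two (s.w2A _))) (i.IY.one (s.w1A a))

theorem Irr.hhX (i : Irr T R A1 A2 w1 w2 X Y) (s : SLAct T α ρ R A1 A2 w1 w2) (a : F) :
    hh w1 w2 a ∈ normalizer (X : Set G) := mul_mem (i.nnX s a) (i.nnX s 1)

/-- `[A₁, X] ≤ A₁` -/
theorem Irr.comm1 (i : Irr T R A1 A2 w1 w2 X Y) {g x : G} (hg : g ∈ A1) (hx : x ∈ X) :
    g * x * g⁻¹ * x⁻¹ ∈ A1 := by
  have e : g * x * g⁻¹ * x⁻¹ = g * (x * g⁻¹ * x⁻¹) := by group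
  rw [e]
  exact A1.mul_mem hg (conj_mem_n (i.XA1 hx) (A1.inv_mem hg))

theorem Irr.comm2 (i : Irr T R A1 A2 w1 w2 X Y) {g x : G} (hg : g ∈ A2) (hx : x ∈ X) :
    g * x * g⁻¹ * x⁻¹ ∈ A2 := by
  have e : g * x * g⁻¹ * x⁻¹ = g * (x * g⁻¹ * x⁻¹) := by group
  rw [e]
  exact A2.mul_mem hg (conj_mem_n (i.XA2 hx) (A2.inv_mem hg))

theorem Irr.commX1 (i : Irr T R A1 A2 w1 w2 X Y) {g x : G} (hg : g ∈ A1) (hx : x ∈ X) :
    g * x * g⁻¹ * x⁻¹ ∈ X := X.mul_mem (conj_mem_n (i.IX.one hg) hx) (X.inv_mem hx)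

theorem Irr.commX2 (i : Irr T R A1 A2 w1 w2 X Y) {g x : G} (hg : g ∈ A2) (hx : x ∈ X) :
    g * x * g⁻¹ * x⁻¹ ∈ X := X.mul_mem (conj_mem_n (i.IX.two hg) hx) (X.inv_mem hx)

/-- `X / Y` is abelian -/
theorem Irr.comm (i : Irr T R A1 A2 w1 w2 X Y) {x y : G} (hx : x ∈ X) (hy : y ∈ X) :
    x * y * x⁻¹ * y⁻¹ ∈ Y := i.triv x (i.XR hx) y hy

theorem cx_normalizes [Finite G] {X Y A : Subgroup G} {h : X ≤ normalizer (Y : Set G)}
    {hA : A ≤ normalizer (Y : Set G)} {g : G} (hgX : g ∈ normalizer (X : Set G))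
    (hgY : g ∈ normalizer (Y : Set G)) (hgA : g ∈ normalizer (A : Set G)) :
    g ∈ normalizer ((cx X Y A h hA : Subgroup G) : Set G) := by
  refine mem_norm_of fun x hx => ⟨conj_mem_n hgX hx.1, fun k hk => ?_⟩
  have h1 := hx.2 _ (conj_mem_n' hgA hk)
  have e : k * (g * x * g⁻¹) * k⁻¹ * (g * x * g⁻¹)⁻¹ =
      g * ((g⁻¹ * k * g) * x * (g⁻¹ * k * g)⁻¹ * x⁻¹) * g⁻¹ := by group
  rw [e]
  exact conj_mem_n hgY h1

/-- the elementary abelian property -/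
theorem Irr.sq [Finite G] (i : Irr T R A1 A2 w1 w2 X Y) (s : SLAct T α ρ R A1 A2 w1 w2)
    (hR : IsPGroup 2 R) {x : G} (hx : x ∈ X) : x * x ∈ Y := by
  let B : Subgroup G :=
    { carrier := {x | x ∈ X ∧ x * x ∈ Y}
      one_mem' := ⟨X.one_mem, by simp [Y.one_mem]⟩
      mul_mem' := fun {a b} ha hb => ⟨X.mul_mem ha.1 hb.1, by
        have e : a * b * (a * b) = (a * (b * a * b⁻¹ * a⁻¹) * a⁻¹) * ((a * a) * (b * b)) := by group
        rw [e]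
        exact Y.mul_mem (conj_mem_n (i.XY ha.1) (i.comm hb.1 ha.1)) (Y.mul_mem ha.2 hb.2)⟩
      inv_mem' := fun {a} ha => ⟨X.inv_mem ha.1, by
        have e : a⁻¹ * a⁻¹ = (a * a)⁻¹ := by group
        rw [e]
        exact Y.inv_mem ha.2⟩ }
  have hB : ∀ g ∈ normalizer (X : Set G), g ∈ normalizer (Y : Set G) → g ∈ normalizer (B : Set G) := by
    intro g hgX hgY
    refine mem_norm_of fun x hx => ⟨conj_mem_n hgX hx.1, ?_⟩
    have e : g * x * g⁻¹ * (g * x * g⁻¹) = g * (x * x) * g⁻¹ := by group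
    rw [e]
    exact conj_mem_n hgY hx.2
  have hYB : Y ≤ B := fun y hy => ⟨i.YX hy, Y.mul_mem hy hy⟩
  have h1 := i.irr B hYB (fun x hx => hx.1) (fun t ht => hB t (i.IX.T ht) (i.IY.T ht))
    (fun a => hB _ (i.w1X s a) (i.IY.one (s.w1A a))) (fun a => hB _ (i.w2X s a) (i.IY.two (s.w2A a)))
  rcases h1 with h1 | h1
  · exfalso
    -- an element of `X - Y` with square in `Y`
    obtain ⟨z, hz, hzY⟩ := Set.not_subset.1 i.ne
    obtain ⟨k, hk⟩ := (hR.to_le i.XR) ⟨z, hz⟩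
    have hk' : z ^ 2 ^ k = 1 := by simpa using congrArg Subtype.val hk
    have h2 : ∀ j : ℕ, ∃ m, z ^ 2 ^ m ∉ Y ∧ (z ^ 2 ^ m * z ^ 2 ^ m ∈ Y ∨ m = j) := by
      intro j
      induction j with
      | zero => exact ⟨0, by simpa using hzY, Or.inr rfl⟩
      | succ j ih =>
        obtain ⟨m, h3, h4 | rfl⟩ := ih
        · exact ⟨m, h3, Or.inl h4⟩
        · by_cases h5 : z ^ 2 ^ m * z ^ 2 ^ m ∈ Y
          · exact ⟨m, h3, Or.inl h5⟩
          · refine ⟨m + 1, ?_, Or.inr rfl⟩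
            rw [pow_succ, mul_two, pow_add]
            exact h5
    obtain ⟨m, h3, h4⟩ := h2 k
    rcases h4 with h4 | rfl
    · exact h3 (h1 ⟨X.pow_mem hz _, h4⟩)
    · rw [hk'] at h3
      exact h3 Y.one_mem
  · exact (h1 hx).2

/-- `X / Y` is a quadratic module, or centralised by `A₁` and `A₂`. -/
theorem Irr.tquad [Finite G] (i : Irr T R A1 A2 w1 w2 X Y) (s : SLAct T α ρ R A1 A2 w1 w2)
    (hR : IsPGroup 2 R) :
    (∀ x ∈ X, (∀ g ∈ A1, g * x * g⁻¹ * x⁻¹ ∈ Y) ∧ ∀ g ∈ A2, g * x * g⁻¹ * x⁻¹ ∈ Y) ∨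
    ∃ U1 U2 : Subgroup G, TQuad T ρ Y U1 U2 w1 w2 ∧ U1 ⊔ U2 = X ∧ ¬ U2 ≤ Y ∧ U1 ≤ A1 ⊔ Y ∧
      U1 ≤ X ∧ U2 ≤ X := by
  set U1 := cx X Y A1 i.XY i.IY.one with hU1
  set U2 := cx X Y A2 i.XY i.IY.two with hU2
  have h1X : U1 ≤ X := fun x hx => hx.1
  have h2X : U2 ≤ X := fun x hx => hx.1
  have hY1 : Y ≤ U1 := fun y hy => ⟨i.YX hy, fun g hg => Y.mul_mem (conj_mem_n (i.IY.one hg) hy) (Y.inv_mem hy)⟩
  have hY2 : Y ≤ U2 := fun y hy => ⟨i.YX hy, fun g hg => Y.mul_mem (conj_mem_n (i.IY.two hg) hy) (Y.inv_mem hy)⟩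
  have hT1 : T ≤ normalizer (U1 : Set G) := fun t ht => cx_normalizes (i.IX.T ht) (i.IY.T ht) (s.NT1 ht)
  have hT2 : T ≤ normalizer (U2 : Set G) := fun t ht => cx_normalizes (i.IX.T ht) (i.IY.T ht) (s.NT2 ht)
  -- `U₁ ∩ U₂`
  have hI := i.irr (U1 ⊓ U2) (le_inf hY1 hY2) (inf_le_left.trans h1X)
    (fun t ht => by
      refine mem_norm_of fun x hx => ⟨conj_mem_n (hT1 ht) hx.1, conj_mem_n (hT2 ht) hx.2⟩)
    (fun a => by
      refine mem_norm_of fun x hx => ?_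
      have e : w1 a * x * (w1 a)⁻¹ = (w1 a * x * (w1 a)⁻¹ * x⁻¹) * x := by group
      rw [e]
      have h1 := hx.1.2 _ (s.w1A a)
      exact ⟨U1.mul_mem (hY1 h1) hx.1, U2.mul_mem (hY2 h1) hx.2⟩)
    (fun a => by
      refine mem_norm_of fun x hx => ?_
      have e : w2 a * x * (w2 a)⁻¹ = (w2 a * x * (w2 a)⁻¹ * x⁻¹) * x := by group
      rw [e]
      have h1 := hx.2.2 _ (s.w2A a)
      exact ⟨U1.mul_mem (hY1 h1) hx.1, U2.mul_mem (hY2 h1) hx.2⟩)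
  rcases hI with hI | hI
  swap
  · left
    intro x hx
    exact ⟨(hI hx).1.2, (hI hx).2.2⟩
  right
  -- the commutator subgroups
  let B1 : Subgroup G := Subgroup.closure {z | ∃ g ∈ A1, ∃ x ∈ X, z = g * x * g⁻¹ * x⁻¹} ⊔ Y
  let B2 : Subgroup G := Subgroup.closure {z | ∃ g ∈ A2, ∃ x ∈ X, z = g * x * g⁻¹ * x⁻¹} ⊔ Y
  have m1 : ∀ a ∈ A1, ∀ x ∈ X, a * x * a⁻¹ * x⁻¹ ∈ U1 := by
    intro a ha x hx
    refine ⟨i.commX1 ha hx, fun g hg => ?_⟩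
    have h1 := s.ab1 g hg _ (i.comm1 ha hx)
    have e : g * (a * x * a⁻¹ * x⁻¹) * g⁻¹ * (a * x * a⁻¹ * x⁻¹)⁻¹ = 1 := by rw [h1]; group
    rw [e]
    exact Y.one_mem
  have m2 : ∀ a ∈ A2, ∀ x ∈ X, a * x * a⁻¹ * x⁻¹ ∈ U2 := by
    intro a ha x hx
    refine ⟨i.commX2 ha hx, fun g hg => ?_⟩
    have h1 := s.ab2 g hg _ (i.comm2 ha hx)
    have e : g * (a * x * a⁻¹ * x⁻¹) * g⁻¹ * (a * x * a⁻¹ * x⁻¹)⁻¹ = 1 := by rw [h1]; group
    rw [e]
    exact Y.one_mem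
  have hB1U : B1 ≤ U1 := sup_le ((closure_le _).2 (by rintro _ ⟨g, hg, x, hx, rfl⟩; exact m1 g hg x hx)) hY1
  have hB2U : B2 ≤ U2 := sup_le ((closure_le _).2 (by rintro _ ⟨g, hg, x, hx, rfl⟩; exact m2 g hg x hx)) hY2
  have hB1A : B1 ≤ A1 ⊔ Y := sup_le ((closure_le _).2 (by
    rintro _ ⟨g, hg, x, hx, rfl⟩; exact mem_sup_left (i.comm1 hg hx))) le_sup_right
  have hc1 : ∀ g ∈ A1, ∀ x ∈ X, g * x * g⁻¹ * x⁻¹ ∈ B1 := fun g hg x hx =>
    mem_sup_left (subset_closure ⟨g, hg, x, hx, rfl⟩)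
  have hc2 : ∀ g ∈ A2, ∀ x ∈ X, g * x * g⁻¹ * x⁻¹ ∈ B2 := fun g hg x hx =>
    mem_sup_left (subset_closure ⟨g, hg, x, hx, rfl⟩)
  have hTB : ∀ (A : Subgroup G), T ≤ normalizer (A : Set G) → ∀ t ∈ T,
      ∀ z ∈ Subgroup.closure {z | ∃ g ∈ A, ∃ x ∈ X, z = g * x * g⁻¹ * x⁻¹} ⊔ Y,
        t * z * t⁻¹ ∈ Subgroup.closure {z | ∃ g ∈ A, ∃ x ∈ X, z = g * x * g⁻¹ * x⁻¹} ⊔ Y := by
    intro A hA t ht z hz
    have h1 : Subgroup.closure {z | ∃ g ∈ A, ∃ x ∈ X, z = g * x * g⁻¹ * x⁻¹} ⊔ Y ≤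
        (Subgroup.closure {z | ∃ g ∈ A, ∃ x ∈ X, z = g * x * g⁻¹ * x⁻¹} ⊔ Y).comap
          (MulAut.conj t).toMonoidHom := by
      refine sup_le ((closure_le _).2 ?_) fun y hy => ?_
      · rintro _ ⟨g, hg, x, hx, rfl⟩
        refine mem_sup_left (subset_closure ⟨t * g * t⁻¹, conj_mem_n (hA ht) hg, t * x * t⁻¹,
          conj_mem_n (i.IX.T ht) hx, ?_⟩)
        change t * (g * x * g⁻¹ * x⁻¹) * t⁻¹ = _
        group
      · exact mem_sup_right (conj_mem_n (i.IY.T ht) hy)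
    exact h1 hz
  have hBX : B1 ⊔ B2 ≤ X := sup_le (hB1U.trans h1X) (hB2U.trans h2X)
  have hB := i.irr (B1 ⊔ B2) (le_sup_right.trans le_sup_left) hBX
    (fun t ht => conj_sup_le (fun z hz => mem_sup_left (hTB A1 s.NT1 t ht z hz))
      fun z hz => mem_sup_right (hTB A2 s.NT2 t ht z hz))
    (fun a => by
      refine mem_norm_of fun x hx => ?_
      have e : w1 a * x * (w1 a)⁻¹ = (w1 a * x * (w1 a)⁻¹ * x⁻¹) * x := by group
      rw [e]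
      exact mul_mem (mem_sup_left (hc1 _ (s.w1A a) x (hBX hx))) hx)
    (fun a => by
      refine mem_norm_of fun x hx => ?_
      have e : w2 a * x * (w2 a)⁻¹ = (w2 a * x * (w2 a)⁻¹ * x⁻¹) * x := by group
      rw [e]
      exact mul_mem (mem_sup_right (hc2 _ (s.w2A a) x (hBX hx))) hx)
  have hXB : X ≤ B1 ⊔ B2 := by
    refine hB.resolve_left fun h => ?_
    apply i.ne
    intro x hx
    refine hI ⟨⟨hx, fun g hg => h (mem_sup_left (hc1 g hg x hx))⟩,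
      ⟨hx, fun g hg => h (mem_sup_right (hc2 g hg x hx))⟩⟩
  have hsup : U1 ⊔ U2 = X := le_antisymm (sup_le h1X h2X) (hXB.trans (sup_le_sup hB1U hB2U))
  have hcm : ∀ {x y : G}, x ∈ X → y ∈ X → x * y * x⁻¹ * y⁻¹ ∈ Y := fun hx hy => i.comm hx hy
  -- `U₁ = B₁`
  have hU1B : U1 ≤ B1 := by
    intro x hx
    have h1 := hXB (h1X hx)
    have hN : B2 ≤ normalizer (B1 : Set G) := by
      intro b hb
      refine mem_norm_of fun a ha => ?_
      have e : b * a * b⁻¹ = (b * a * b⁻¹ * a⁻¹) * a := by group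
      rw [e]
      exact B1.mul_mem (mem_sup_right (hcm (h2X (hB2U hb)) (h1X (hB1U ha)))) ha
    rw [sup_comm] at h1
    obtain ⟨b, hb, a, ha, e⟩ := mem_sup_of_le_norm hN h1
    have h2 : b ∈ Y := hI ⟨by
      have : b = x * a⁻¹ := by rw [e]; group
      rw [this]
      exact U1.mul_mem hx (U1.inv_mem (hB1U ha)), hB2U hb⟩
    rw [e]
    exact B1.mul_mem (mem_sup_right h2) ha
  -- action of `A₁ R`
  have hAR : ∀ {A U : Subgroup G}, A ≤ normalizer (R : Set G) → A ≤ normalizer (X : Set G) →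
      A ≤ normalizer (Y : Set G) → (∀ x, x ∈ U → x ∈ X ∧ ∀ g ∈ A, g * x * g⁻¹ * x⁻¹ ∈ Y) →
      ∀ x ∈ U, ∀ g ∈ A ⊔ R, g * x * g⁻¹ * x⁻¹ ∈ Y := by
    intro A U hAR hAX hAY hU x hx g hg
    obtain ⟨a, ha, r, hr, rfl⟩ := mem_sup_of_le_norm hAR hg
    have e : a * r * x * (a * r)⁻¹ * x⁻¹ = (a * (r * x * r⁻¹ * x⁻¹) * a⁻¹) * (a * x * a⁻¹ * x⁻¹) := by group
    rw [e]
    exact Y.mul_mem (conj_mem_n (hAY ha) (i.triv r hr x (hU x hx).1)) ((hU x hx).2 a ha)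
  have hq : TQuad T ρ Y U1 U2 w1 w2 := by
    refine
      { D1 := hY1
        D2 := hY2
        N1 := h1X.trans i.XY
        N2 := h2X.trans i.XY
        K1 := fun a => i.IY.one (s.w1A a)
        K2 := fun a => i.IY.two (s.w2A a)
        inf := fun x h1 h2 => hI ⟨h1, h2⟩
        comm1 := fun x hx y hy => hcm (h1X hx) (h1X hy)
        comm2 := fun x hx y hy => hcm (h2X hx) (h2X hy)
        comm12 := fun x hx y hy => hcm (h1X hx) (h2X hy)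
        sq1 := fun x hx => i.sq s hR (h1X hx)
        sq2 := fun x hx => i.sq s hR (h2X hx)
        c1 := fun a x hx => hx.2 _ (s.w1A a)
        c2 := fun a x hx => hx.2 _ (s.w2A a)
        m1 := fun a x hx => m1 _ (s.w1A a) x (h2X hx)
        m2 := fun a x hx => m2 _ (s.w2A a) x (h1X hx)
        add1 := fun a b x hx => i.congr (s.add a b) (mul_mem (i.w1X s a) (i.w1X s b)) (h2X hx)
        zero2 := fun x hx => i.triv _ s.zero x (h1X hx)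
        n12 := fun a ha x hx => ⟨conj_mem_n (i.nnX s a) (h1X hx), fun g hg => ?_⟩
        n21 := fun a ha x hx => ⟨conj_mem_n (i.nnX s a) (h2X hx), fun g hg => ?_⟩
        tor := fun a ha b x hx => i.congr (s.tor a ha b) (i.w1X s _) (h2X hx)
        TD := i.IY.T
        T1 := hT1
        T2 := hT2
        eqv := fun t a x hx => i.congr (s.eqv t a) (i.w1X s _) (h2X hx) }
    · have h1 := hAR s.N1R i.IX.one i.IY.one (U := U1) (fun x hx => hx) x hx _ (s.nn2 a ha g hg)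
      have e : g * (nn w1 w2 a * x * (nn w1 w2 a)⁻¹) * g⁻¹ * (nn w1 w2 a * x * (nn w1 w2 a)⁻¹)⁻¹ =
          nn w1 w2 a * (((nn w1 w2 a)⁻¹ * g * nn w1 w2 a) * x * ((nn w1 w2 a)⁻¹ * g * nn w1 w2 a)⁻¹ * x⁻¹) *
            (nn w1 w2 a)⁻¹ := by group
      rw [e]
      exact conj_mem_n (i.nnY s a) h1
    · have h1 := hAR s.N2R i.IX.two i.IY.two (U := U2) (fun x hx => hx) x hx _ (s.nn1 a ha g hg)
      have e : g * (nn w1 w2 a * x * (nn w1 w2 a)⁻¹) * g⁻¹ * (nn w1 w2 a * x * (nn w1 w2 a)⁻¹)⁻¹ =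
          nn w1 w2 a * (((nn w1 w2 a)⁻¹ * g * nn w1 w2 a) * x * ((nn w1 w2 a)⁻¹ * g * nn w1 w2 a)⁻¹ * x⁻¹) *
            (nn w1 w2 a)⁻¹ := by group
      rw [e]
      exact conj_mem_n (i.nnY s a) h1
  refine ⟨U1, U2, hq, hsup, fun h => ?_, hU1B.trans hB1A, h1X, h2X⟩
  -- `U₂ ≤ Y` gives `X = U₁`, then `X ≤ Y`
  have hX1 : X ≤ U1 := by
    rw [← hsup]
    exact sup_le le_rfl (h.trans hY1)
  apply i.ne
  intro x hx
  have h1 := h (hq.n12 1 one_ne_zero x (hX1 hx))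
  have h2 := conj_mem_n' (i.nnY s 1) h1
  have e : (nn w1 w2 1)⁻¹ * (nn w1 w2 1 * x * (nn w1 w2 1)⁻¹) * nn w1 w2 1 = x := by group
  rwa [e] at h2

/-- The statement on the weight `χ`. -/
def QuadAlt (T : Subgroup G) (α ρ : T →* Fˣ) (A1 : Subgroup G) (χ : T →* Fˣ) : Prop :=
  (∀ t, α t = 1 → χ t = 1) ∨ HasWt T χ A1 ⊥ ∨
    ∃ χ' : T →* Fˣ, HasWt T χ' A1 ⊥ ∧ (∃ k : ℕ, χ' = ρ ^ 2 ^ k * χ) ∧ ∀ t, α t = 1 → χ t * χ' t = 1

/-- **The weights of an irreducible section.** -/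
theorem Irr.wt [Finite G] [Finite F] [CharP F 2] (i : Irr T R A1 A2 w1 w2 X Y)
    (s : SLAct T α ρ R A1 A2 w1 w2) (hR : IsPGroup 2 R) (hc : ∀ s t : T, s * t = t * s)
    (he : ∀ t : T, t ^ (Nat.card F - 1) = 1) {χ : T →* Fˣ} (hχ : HasWt T χ X Y) : QuadAlt T α ρ A1 χ := by
  rcases i.tquad s hR with h | ⟨U1, U2, hq, hsup, hne, hUA, h1X, h2X⟩
  · left
    intro t ht
    obtain ⟨a, ha, hta⟩ := s.tK t ht
    obtain ⟨A, f, k1, k2, k3, k4, k5, x, hx, k6⟩ := hχ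
    have hxX := k1 hx
    -- `nn a` acts trivially
    have h1 : ∀ g ∈ A1, ∀ x ∈ X, g * x * g⁻¹ * x⁻¹ ∈ Y := fun g hg x hx => (h x hx).1 g hg
    have h2 : ∀ g ∈ A2, ∀ x ∈ X, g * x * g⁻¹ * x⁻¹ ∈ Y := fun g hg x hx => (h x hx).2 g hg
    have hmul : ∀ {g g' : G}, g ∈ normalizer (Y : Set G) → (∀ x ∈ X, g * x * g⁻¹ * x⁻¹ ∈ Y) →
        (∀ x ∈ X, g' * x * g'⁻¹ * x⁻¹ ∈ Y) → ∀ x ∈ X, (g * g') * x * (g * g')⁻¹ * x⁻¹ ∈ Y := by
      intro g g' hgY hg hg' x hx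
      have e : (g * g') * x * (g * g')⁻¹ * x⁻¹ = (g * (g' * x * g'⁻¹ * x⁻¹) * g⁻¹) * (g * x * g⁻¹ * x⁻¹) := by group
      rw [e]
      exact Y.mul_mem (conj_mem_n hgY (hg' x hx)) (hg x hx)
    have hY1 : ∀ a, w1 a ∈ normalizer (Y : Set G) := fun a => i.IY.one (s.w1A a)
    have hY2 : ∀ a, w2 a ∈ normalizer (Y : Set G) := fun a => i.IY.two (s.w2A a)
    have hnn : ∀ a, ∀ x ∈ X, nn w1 w2 a * x * (nn w1 w2 a)⁻¹ * x⁻¹ ∈ Y := fun a =>
      hmul (mul_mem (hY1 _) (hY2 _)) (hmul (hY1 _) (h1 _ (s.w1A _)) (h2 _ (s.w2A _))) (h1 _ (s.w1A _))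
    have hhh : hh w1 w2 a * x * (hh w1 w2 a)⁻¹ * x⁻¹ ∈ Y := hmul (i.nnY s a) (hnn a) (hnn 1) x hxX
    have h3 : (t : G) * x * (t : G)⁻¹ * x⁻¹ ∈ Y := by
      have h4 := i.congr hta (i.hhX s a) hxX
      have e : (t : G) * x * (t : G)⁻¹ * x⁻¹ = ((t : G) * x * (t : G)⁻¹) * (hh w1 w2 a * x * (hh w1 w2 a)⁻¹)⁻¹ *
          (hh w1 w2 a * x * (hh w1 w2 a)⁻¹ * x⁻¹) := by group
      rw [e]
      exact Y.mul_mem h4 hhh
    have h5 := k2 t x hx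
    have h6 := k3 ((t : G) * x * (t : G)⁻¹ * x⁻¹) (A.mul_mem h5 (A.inv_mem hx)) x hx
    have e : (t : G) * x * (t : G)⁻¹ * x⁻¹ * x = (t : G) * x * (t : G)⁻¹ := by group
    rw [e, k4 _ (A.mul_mem h5 (A.inv_mem hx)) h3, zero_add, k5 t x hx] at h6
    have h7 : (χ t : F) * f x = 1 * f x := by rw [one_mul]; exact h6
    exact Units.ext (mul_right_cancel₀ k6 h7)
  · right
    obtain ⟨ψ, e2, e1, hw2, hw1, hψ⟩ := TQuad.main hq hc he hne (fun B hB1 hB2 hT hB3 hB4 => by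
      rw [hsup] at hB2 ⊢
      exact i.irr B hB1 hB2 hT hB3 hB4)
    have hU1N : U1 ≤ normalizer (Y : Set G) := hq.N1
    have hA1Y : A1 ≤ normalizer (Y : Set G) := i.IY.one
    have key : ∀ {φ : T →* Fˣ}, HasWt T φ U1 Y → HasWt T φ A1 ⊥ := by
      intro φ hφ
      exact (hφ.of_le_sup hU1N hA1Y hUA i.IY.T s.NT1).anti' bot_le
    rcases hχ.split (C := U1) hq.T1 with h1 | h1
    · right
      have hXN : X ≤ normalizer (U1 : Set G) := by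
        intro b hb
        refine mem_norm_of fun a ha => ?_
        have e : b * a * b⁻¹ = (b * a * b⁻¹ * a⁻¹) * a := by group
        rw [e]
        exact U1.mul_mem (hq.D1 (i.comm hb (h1X ha))) ha
      have h2 : HasWt T χ U2 Y := by
        refine (h1.of_le_sup hXN (h2X.trans hXN) ?_ hq.T1 hq.T2).anti' hq.D1
        rw [sup_comm, hsup]
      obtain ⟨k, rfl⟩ := e2.gal h2
      refine ⟨(ρ * ψ) ^ 2 ^ k, key (hw1.gal k), ⟨k, ?_⟩, fun t ht => ?_⟩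
      · ext t
        simp only [MonoidHom.mul_apply, MonoidHom.pow_apply, mul_pow]
      · obtain ⟨a, ha, hta⟩ := s.tK t ht
        have h3 := hψ t a ha (fun x hx => i.congr hta (i.hhX s a) (h1X hx))
          (fun x hx => i.congr hta (i.hhX s a) (h2X hx))
        rw [MonoidHom.pow_apply, MonoidHom.pow_apply, ← mul_pow, h3, one_pow]
    · left
      exact key (h1.mono inf_le_right)

end irr

section chain

variable {T : Subgroup G} {α ρ : T →* Fˣ} {R A1 A2 W C : Subgroup G} {w1 w2 : F → G}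

/-- **All weights of `C / W`.** -/
theorem SLAct.chain [Finite G] [Finite F] [CharP F 2] (s : SLAct T α ρ R A1 A2 w1 w2) (hR : IsPGroup 2 R)
    (hc : ∀ s t : T, s * t = t * s) (he : ∀ t : T, t ^ (Nat.card F - 1) = 1) (IW : Inv T R A1 A2 W)
    (hCR : C ≤ R) (hC1 : C ≤ normalizer (A1 : Set G)) (hC2 : C ≤ normalizer (A2 : Set G)) :
    ∀ n : ℕ, ∀ X : Subgroup G, Nat.card X = n → Inv T R A1 A2 X → W ≤ X → X ≤ C →
      ∀ χ : T →* Fˣ, HasWt T χ X W → QuadAlt T α ρ A1 χ := by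
  classical
  have : Fact (Nat.Prime 2) := ⟨Nat.prime_two⟩
  intro n
  induction n using Nat.strong_induction_on with
  | _ n ih =>
    intro X hn IX hWX hXC χ hχ
    by_cases hXW : X ≤ W
    · exact absurd hχ (not_hasWt_of_le hXW)
    -- a maximal `Y`
    let P : Subgroup G → Prop := fun Y => Inv T R A1 A2 Y ∧ W ≤ Y ∧ Y ≤ X ∧ ¬ X ≤ Y
    have hPW : P W := ⟨IW, le_rfl, hWX, hXW⟩
    obtain ⟨Y, hWY', hY⟩ := (Set.toFinite {Y | P Y}).exists_le_maximal hPW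
    have hYP : P Y := hY.prop
    obtain ⟨IY, hWY, hYX, hne⟩ := hYP
    have hmax : ∀ B : Subgroup G, Inv T R A1 A2 B → Y ≤ B → B ≤ X → B ≤ Y ∨ X ≤ B := by
      intro B IB hYB hBX
      by_cases h : X ≤ B
      · exact Or.inr h
      · exact Or.inl (hY.le_of_ge (y := B) ⟨IB, hWY.trans hYB, hBX, h⟩ hYB)
    have hXR : X ≤ R := hXC.trans hCR
    have htriv : ∀ r ∈ R, ∀ x ∈ X, r * x * r⁻¹ * x⁻¹ ∈ Y := by
      have hh : ∀ g : G, g ∈ normalizer (X : Set G) → g ∈ normalizer (Y : Set G) →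
          g ∈ normalizer (R : Set G) →
          g ∈ normalizer ((cx X Y R (hXR.trans IY.R) IY.R : Subgroup G) : Set G) := fun g h1 h2 h3 =>
        cx_normalizes h1 h2 h3
      have hRR : R ≤ normalizer (R : Set G) := le_normalizer
      have IB : Inv T R A1 A2 (cx X Y R (hXR.trans IY.R) IY.R) :=
        { T := fun t ht => hh t (IX.T ht) (IY.T ht) (s.NTR ht)
          R := fun t ht => hh t (IX.R ht) (IY.R ht) (hRR ht)
          one := fun t ht => hh t (IX.one ht) (IY.one ht) (s.N1R ht)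
          two := fun t ht => hh t (IX.two ht) (IY.two ht) (s.N2R ht) }
      rcases hmax _ IB (fun y hy => ⟨hYX hy, fun g hg => Y.mul_mem (conj_mem_n (IY.R hg) hy) (Y.inv_mem hy)⟩)
        (fun x hx => hx.1) with h | h
      · exfalso
        obtain ⟨x, hx, hxY⟩ := Set.not_subset.1 hne
        obtain ⟨z, hz, hzY, hz'⟩ := GTwoFour.Tools.exists_fixed_mod (Y := R) (N := X) (M := Y) hR hXR
          (fun y hy n hn => conj_mem_n (IX.R hy) hn) (fun y hy n hn => conj_mem_n (IY.R hy) hn) ⟨x, hx, hxY⟩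
        exact hzY (h ⟨hz, fun g hg => by
          have := hz' g hg
          rwa [commutatorElement_def] at this⟩)
      · exact fun r hr x hx => (h hx).2 r hr
    have hI : Irr T R A1 A2 w1 w2 X Y :=
      { IX := IX
        IY := IY
        YX := hYX
        ne := hne
        XR := hXR
        triv := htriv
        XA1 := hXC.trans hC1
        XA2 := hXC.trans hC2
        irr := fun B hYB hBX hT h1 h2 => by
          have hBR : R ≤ normalizer (B : Set G) := by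
            intro r hr
            refine mem_norm_of fun b hb => ?_
            have e : r * b * r⁻¹ = (r * b * r⁻¹ * b⁻¹) * b := by group
            rw [e]
            exact B.mul_mem (hYB (htriv r hr b (hBX hb))) hb
          refine hmax B { T := hT, R := hBR, one := fun x hx => ?_, two := fun x hx => ?_ } hYB hBX
          · obtain ⟨a, ha⟩ := s.rep1 x hx
            have e : x = (x * (w1 a)⁻¹) * w1 a := by group
            rw [e]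
            exact mul_mem (hBR ha) (h1 a)
          · obtain ⟨a, ha⟩ := s.rep2 x hx
            have e : x = (x * (w2 a)⁻¹) * w2 a := by group
            rw [e]
            exact mul_mem (hBR ha) (h2 a) }
    rcases hχ.split (C := Y) IY.T with h1 | h1
    · exact hI.wt s hR hc he h1
    · rw [inf_eq_right.2 hYX] at h1
      have hlt : Nat.card Y < n := by
        rw [← hn]
        have hne' : Y ≠ X := fun h => hne h.ge
        exact lt_of_le_of_ne (Subgroup.card_le_of_le hYX) fun h => hne' (Subgroup.eq_of_le_of_card_ge hYX h.ge)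
      exact ih _ hlt Y rfl IY hWY (hYX.trans hXC) χ h1

end chain

end Cfsg.Agent.Omega.NO3S.B3
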