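import Cfsg.Agent.Omega.NO3S.B3.QuadChain
import Cfsg.Agent.Omega.NO3S.B3.Exh

/-!
# The field `quad` of `TypeS` in coordinates (section 7 of THEOREM B3, #12862)
-/

set_option autoImplicit false
set_option linter.unusedSectionVars false

namespace Cfsg.Agent.Omega.NO3S.B3

open Subgroup Cfsg.Agent.Omega.BTwo
open scoped Pointwise

universe u v

variable {G : Type u} [Group G] {F : Type v} [Field F] [Finite G] [Finite F] [CharP F 2]
  {T : Subgroup G} {α β : T →* Fˣ} {A1 : Subgroup G}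

/-- `QuadAlt` in coordinates -/
theorem QuadAlt.coord {b : ZMod (Nat.card F - 1)} (hf : Full2 α β)
    {p : Wt F} (h : QuadAlt T α (ch α β (-b, 1)) A1 (ch α β p)) :
    p.2 = 0 ∨ HasWt T (ch α β p) A1 ⊥ ∨
      ∃ p' : Wt F, HasWt T (ch α β p') A1 ⊥ ∧ Cl (-b, 1) (p' - p) ∧ p'.2 = -p.2 := by
  have key : ∀ p : Wt F, (∀ t, α t = 1 → ch α β p t = 1) → p.2 = 0 := by
    intro p hp
    have h1 : ch α β p = ch α β ((p.1, 0) : Wt F) := by
      ext t
      obtain ⟨t', h1, h2⟩ := hf 1 (β t)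
      have h3 := hp t' h1
      have e1 : ch α β p t' = β t ^ p.2.val := by
        rw [ch, MonoidHom.mul_apply, MonoidHom.pow_apply, MonoidHom.pow_apply, h1, h2, one_pow, one_mul]
      rw [e1] at h3
      have e2 : ch α β p t = α t ^ p.1.val * β t ^ p.2.val := by
        rw [ch, MonoidHom.mul_apply, MonoidHom.pow_apply, MonoidHom.pow_apply]
      have e3 : ch α β ((p.1, 0) : Wt F) t = α t ^ p.1.val := by
        rw [ch, MonoidHom.mul_apply, MonoidHom.pow_apply, MonoidHom.pow_apply, ZMod.val_zero, pow_zero, mul_one]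
      rw [e2, e3, h3, mul_one]
    have h2 := ch_inj hf h1
    exact congrArg Prod.snd h2
  rcases h with h | h | ⟨χ', h1, ⟨k, rfl⟩, h3⟩
  · exact Or.inl (key p h)
  · exact Or.inr (Or.inl h)
  · right; right
    have h2 : ch α β (-b, 1) ^ 2 ^ k * ch α β p =
        ch α β ((((2 : ZMod (Nat.card F - 1)) ^ k * (-b), 2 ^ k * 1) : Wt F) + p) := by
      rw [ch_add]
      congr 1
      have := ch_pow α β ((-b, 1) : Wt F) (2 ^ k)
      push_cast at this
      exact this.symm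
    rw [h2] at h1 h3
    refine ⟨_, h1, ⟨k, by rw [add_sub_cancel_right]⟩, ?_⟩
    have h4 := key (p + (((2 : ZMod (Nat.card F - 1)) ^ k * (-b), 2 ^ k * 1) + p)) (fun t ht => by
      rw [ch_add, MonoidHom.mul_apply]
      exact h3 t ht)
    rw [Prod.snd_add] at h4
    exact eq_neg_of_add_eq_zero_right h4

/-- **The field `quad`** from the action of `⟨A₁, A₂⟩` on `C / W`. -/
theorem SLAct.quad {b : ZMod (Nat.card F - 1)} (hf : Full2 α β) (hi : ∀ t : T, α t = 1 → β t = 1 → t = 1)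
    {R A2 C W : Subgroup G} {w1 w2 : F → G} (s : SLAct T α (ch α β (-b, 1)) R A1 A2 w1 w2) (hR : IsPGroup 2 R)
    (IW : Inv T R A1 A2 W) (IC : Inv T R A1 A2 C) (hWC : W ≤ C) (hCR : C ≤ R)
    (hC1 : C ≤ normalizer (A1 : Set G)) (hC2 : C ≤ normalizer (A2 : Set G)) :
    ∀ p : Wt F, HasWt T (ch α β p) C W → p.2 = 0 ∨ HasWt T (ch α β p) A1 ⊥ ∨
      ∃ p' : Wt F, HasWt T (ch α β p') A1 ⊥ ∧ Cl (-b, 1) (p' - p) ∧ p'.2 = -p.2 := by
  intro p hp
  have hc : ∀ x y : T, x * y = y * x := by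
    intro x y
    rw [← mul_inv_eq_one]
    apply hi
    · rw [map_mul, map_mul, map_inv, map_mul, mul_comm (α y), mul_inv_cancel]
    · rw [map_mul, map_mul, map_inv, map_mul, mul_comm (β y), mul_inv_cancel]
  have he : ∀ t : T, t ^ (Nat.card F - 1) = 1 := by
    intro x
    have h1 : ∀ χ : T →* Fˣ, χ (x ^ (Nat.card F - 1)) = 1 := fun χ => by
      rw [map_pow]
      exact DFunLike.congr_fun (pow_card_sub_one_char χ) x
    exact hi _ (h1 _) (h1 _)
  exact (s.chain hR hc he IW hCR hC1 hC2 _ C rfl IC hWC le_rfl _ hp).coord hf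

end Cfsg.Agent.Omega.NO3S.B3
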