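import Mathlib

/-!
# Torus weights of sections of a 2-group

For THEOREM B3 (#12862, `blueprints/OMEGA-NO3a2-helper153.md`). `T` is a subgroup of `G` acting by conjugation,
`F` a finite field of characteristic 2, `χ : T →* Fˣ`.

* `HasWt T χ A B` : `χ` is a weight of the section `A / (A ∩ B)`: there is a `T`-invariant subgroup `A₁ ≤ A` and
  a nonzero `T`-equivariant additive function `A₁ → F(χ)` vanishing on `A₁ ∩ B`. (`B` need not be contained in
  `A`, nor normal.)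
* `Emb T χ A B` : `A / B` embeds in `F(χ)`.
* `Flag T L A B` : a `T`-invariant series from `A` down to `B` with factors embedded in `F(χ)`, `χ ∈ L`.
* `Gal χ ψ` : `ψ = χ^(2^k)`.
-/

set_option autoImplicit false

namespace Cfsg.Agent.Omega.NO3S.B3

open Subgroup
open scoped Pointwise

variable {G : Type*} [Group G] {F : Type*} [Field F]

/-- `χ` is a weight of the section `A / (A ∩ B)`. -/
def HasWt (T : Subgroup G) (χ : T →* Fˣ) (A B : Subgroup G) : Prop :=
  ∃ (A₁ : Subgroup G) (f : G → F), A₁ ≤ A ∧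
    (∀ t : T, ∀ a ∈ A₁, (t : G) * a * (t : G)⁻¹ ∈ A₁) ∧
    (∀ a ∈ A₁, ∀ b ∈ A₁, f (a * b) = f a + f b) ∧
    (∀ a ∈ A₁, a ∈ B → f a = 0) ∧
    (∀ t : T, ∀ a ∈ A₁, f ((t : G) * a * (t : G)⁻¹) = (χ t : F) * f a) ∧
    ∃ a ∈ A₁, f a ≠ 0

/-- `A / B` embeds in `F(χ)`. -/
def Emb (T : Subgroup G) (χ : T →* Fˣ) (A B : Subgroup G) : Prop :=
  ∃ f : G → F, (∀ a ∈ A, ∀ b ∈ A, f (a * b) = f a + f b) ∧
    (∀ t : T, ∀ a ∈ A, f ((t : G) * a * (t : G)⁻¹) = (χ t : F) * f a) ∧
    ∀ a ∈ A, f a = 0 → a ∈ B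

/-- A series with factors in `F(χ)`, `χ ∈ L`. -/
inductive Flag (T : Subgroup G) : List (T →* Fˣ) → Subgroup G → Subgroup G → Prop
  | nil {A B : Subgroup G} : A ≤ B → Flag T [] A B
  | cons {χ : T →* Fˣ} {L : List (T →* Fˣ)} {A C B : Subgroup G} :
      T ≤ normalizer (C : Set G) → C ≤ A → Emb T χ A C → Flag T L C B → Flag T (χ :: L) A B

/-- Galois conjugacy of characters. -/
def Gal {T : Subgroup G} (χ ψ : T →* Fˣ) : Prop := ∃ k : ℕ, ψ = χ ^ 2 ^ k

section basic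

variable {T A A' B B' C : Subgroup G} {χ ψ : T →* Fˣ}

theorem HasWt.mono (h : HasWt T χ A B) (hA : A ≤ A') : HasWt T χ A' B := by
  obtain ⟨A₁, f, h1, h2, h3, h4, h5, h6⟩ := h
  exact ⟨A₁, f, h1.trans hA, h2, h3, h4, h5, h6⟩

theorem HasWt.anti (h : HasWt T χ A B) (hB : A ⊓ B' ≤ B) : HasWt T χ A B' := by
  obtain ⟨A₁, f, h1, h2, h3, h4, h5, h6⟩ := h
  exact ⟨A₁, f, h1, h2, h3, fun a ha hb => h4 a ha (hB ⟨h1 ha, hb⟩), h5, h6⟩

theorem HasWt.anti' (h : HasWt T χ A B) (hB : B' ≤ B) : HasWt T χ A B' :=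
  h.anti (inf_le_right.trans hB)

theorem HasWt.inf_right_iff : HasWt T χ A (A ⊓ B) ↔ HasWt T χ A B :=
  ⟨fun h => h.anti le_rfl, fun h => h.anti' inf_le_right⟩

/-- **Zassenhaus.** -/
theorem HasWt.split (h : HasWt T χ A B) (hC : T ≤ normalizer (C : Set G)) :
    HasWt T χ A C ∨ HasWt T χ (A ⊓ C) B := by
  obtain ⟨A₁, f, h1, h2, h3, h4, h5, h6⟩ := h
  by_cases hc : ∃ a ∈ A₁, a ∈ C ∧ f a ≠ 0
  · right
    obtain ⟨a, ha, haC, hf⟩ := hc
    refine ⟨A₁ ⊓ C, f, inf_le_inf_right _ h1, ?_, ?_, ?_, ?_, a, ⟨ha, haC⟩, hf⟩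
    · rintro t b ⟨hb, hbC⟩
      exact ⟨h2 t b hb, (mem_normalizer_iff.1 (hC t.2) b).1 hbC⟩
    · rintro b ⟨hb, -⟩ c ⟨hc, -⟩
      exact h3 b hb c hc
    · rintro b ⟨hb, -⟩ hb'
      exact h4 b hb hb'
    · rintro t b ⟨hb, -⟩
      exact h5 t b hb
  · left
    push Not at hc
    exact ⟨A₁, f, h1, h2, h3, hc, h5, h6⟩

theorem not_hasWt_of_le (h : A ≤ B) : ¬ HasWt T χ A B := by
  rintro ⟨A₁, f, h1, h2, h3, h4, h5, a, ha, h6⟩
  exact h6 (h4 a ha (h (h1 ha)))

theorem mem_sup_of_le_norm {A B : Subgroup G} (hAB : A ≤ normalizer (B : Set G)) {g : G} (hg : g ∈ A ⊔ B) :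
    ∃ u ∈ A, ∃ v ∈ B, g = u * v := by
  have h1 : g ∈ ((A ⊔ B : Subgroup G) : Set G) := hg
  rw [coe_mul_of_left_le_normalizer_right A B hAB] at h1
  obtain ⟨a, ha, b, hb, hab⟩ := h1
  exact ⟨a, ha, b, hb, hab.symm⟩

/-- **Second isomorphism theorem**: if `A ≤ C B` then every weight of `A / B` is a weight of `C / B`. -/
theorem HasWt.of_le_sup (h : HasWt T χ A B) (hAB : A ≤ normalizer (B : Set G))
    (hCB : C ≤ normalizer (B : Set G)) (hAC : A ≤ C ⊔ B) (hT : T ≤ normalizer (B : Set G))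
    (hC : T ≤ normalizer (C : Set G)) : HasWt T χ C B := by
  classical
  obtain ⟨A₁, f, h1, h2, h3, h4, h5, a, ha, h6⟩ := h
  have hA₁B : A₁ ≤ normalizer (B : Set G) := h1.trans hAB
  have hone : f 1 = 0 := h4 1 A₁.one_mem B.one_mem
  have hinv : ∀ u ∈ A₁, f u⁻¹ = - f u := by
    intro u hu
    have := h3 u hu u⁻¹ (A₁.inv_mem hu)
    rw [mul_inv_cancel, hone] at this
    exact eq_neg_of_add_eq_zero_right this.symm
  have hdec : ∀ g ∈ A₁ ⊔ B, ∃ u, u ∈ A₁ ∧ u⁻¹ * g ∈ B := by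
    intro g hg
    obtain ⟨u, hu, v, hv, rfl⟩ := mem_sup_of_le_norm hA₁B hg
    exact ⟨u, hu, by simpa using hv⟩
  -- the extension of `f` to `A₁ B`
  let p : G → G := fun g => if hg : g ∈ A₁ ⊔ B then (hdec g hg).choose else 1
  have hp : ∀ g ∈ A₁ ⊔ B, p g ∈ A₁ ∧ (p g)⁻¹ * g ∈ B := by
    intro g hg
    simp only [p, dif_pos hg]
    exact (hdec g hg).choose_spec
  have huniq : ∀ g ∈ A₁ ⊔ B, ∀ u ∈ A₁, u⁻¹ * g ∈ B → f (p g) = f u := by
    intro g hg u hu hug
    obtain ⟨h7, h8⟩ := hp g hg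
    have h9 : u⁻¹ * p g ∈ B := by
      have : u⁻¹ * p g = (u⁻¹ * g) * ((p g)⁻¹ * g)⁻¹ := by group
      rw [this]
      exact B.mul_mem hug (B.inv_mem h8)
    have h10 := h4 (u⁻¹ * p g) (A₁.mul_mem (A₁.inv_mem hu) h7) h9
    rw [h3 _ (A₁.inv_mem hu) _ h7, hinv u hu] at h10
    exact (neg_add_eq_zero.1 h10).symm
  have hle : ∀ u ∈ A₁, u ∈ A₁ ⊔ B := fun u hu => mem_sup_left hu
  refine ⟨C ⊓ (A₁ ⊔ B), fun g => f (p g), inf_le_left, ?_, ?_, ?_, ?_, ?_⟩
  · rintro t b ⟨hb, hb'⟩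
    refine ⟨(mem_normalizer_iff.1 (hC t.2) b).1 hb, ?_⟩
    obtain ⟨u, hu, v, hv, rfl⟩ := mem_sup_of_le_norm hA₁B hb'
    have : (t : G) * (u * v) * (t : G)⁻¹ = ((t : G) * u * (t : G)⁻¹) * ((t : G) * v * (t : G)⁻¹) := by
      group
    rw [this]
    exact mul_mem (mem_sup_left (h2 t u hu)) (mem_sup_right ((mem_normalizer_iff.1 (hT t.2) v).1 hv))
  · rintro b ⟨-, hb⟩ c ⟨-, hc⟩
    obtain ⟨h7, h8⟩ := hp b hb
    obtain ⟨h9, h10⟩ := hp c hc
    rw [← h3 _ h7 _ h9]
    refine huniq _ (mul_mem hb hc) _ (A₁.mul_mem h7 h9) ?_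
    have e : (p b * p c)⁻¹ * (b * c) = ((p c)⁻¹ * ((p b)⁻¹ * b) * p c) * ((p c)⁻¹ * c) := by group
    rw [e]
    refine B.mul_mem ?_ h10
    have := (mem_normalizer_iff.1 (inv_mem (hA₁B h9)) ((p b)⁻¹ * b)).1 h8
    rwa [inv_inv] at this
  · rintro b ⟨-, hb⟩ hbB
    exact (huniq b hb 1 A₁.one_mem (by simpa using hbB)).trans hone
  · rintro t b ⟨-, hb⟩
    obtain ⟨h7, h8⟩ := hp b hb
    have hb' : (t : G) * b * (t : G)⁻¹ ∈ A₁ ⊔ B := by
      obtain ⟨u, hu, v, hv, rfl⟩ := mem_sup_of_le_norm hA₁B hb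
      have : (t : G) * (u * v) * (t : G)⁻¹ = ((t : G) * u * (t : G)⁻¹) * ((t : G) * v * (t : G)⁻¹) := by
        group
      rw [this]
      exact mul_mem (mem_sup_left (h2 t u hu)) (mem_sup_right ((mem_normalizer_iff.1 (hT t.2) v).1 hv))
    rw [← h5 t _ h7]
    refine huniq _ hb' _ (h2 t _ h7) ?_
    have e : ((t : G) * p b * (t : G)⁻¹)⁻¹ * ((t : G) * b * (t : G)⁻¹) =
        (t : G) * ((p b)⁻¹ * b) * (t : G)⁻¹ := by group
    rw [e]
    exact (mem_normalizer_iff.1 (hT t.2) _).1 h8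
  · obtain ⟨w, hw, b, hb, hab⟩ := mem_sup_of_le_norm hCB (hAC (h1 ha))
    have e : w = a * b⁻¹ := by rw [hab]; group
    have hw' : w ∈ A₁ ⊔ B := by
      rw [e]
      exact mul_mem (mem_sup_left ha) (mem_sup_right (B.inv_mem hb))
    refine ⟨w, ⟨hw, hw'⟩, ?_⟩
    have h7 : f (p w) = f a := by
      refine huniq w hw' a ha ?_
      rw [e]
      have : a⁻¹ * (a * b⁻¹) = b⁻¹ := by group
      rw [this]
      exact B.inv_mem hb
    change f (p w) ≠ 0
    rwa [h7]

/-- Conjugation by an element normalising `T`. -/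
theorem HasWt.conj {χ' : T →* Fˣ} (h : HasWt T χ A B) (n : G) (hn : n ∈ normalizer (T : Set G))
    (hχ : ∀ t t' : T, (t' : G) = n * t * n⁻¹ → χ' t' = χ t) :
    HasWt T χ' (MulAut.conj n • A) (MulAut.conj n • B) := by
  obtain ⟨A₁, f, h1, h2, h3, h4, h5, a, ha, h6⟩ := h
  have hmem : ∀ {X : Subgroup G} {g : G}, g ∈ MulAut.conj n • X ↔ n⁻¹ * g * n ∈ X := by
    intro X g
    rw [Subgroup.mem_pointwise_smul_iff_inv_smul_mem, ← map_inv, MulAut.smul_def, MulAut.conj_apply, inv_inv]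
  have ht : ∀ t : T, ∃ t' : T, (t' : G) = n⁻¹ * t * n := fun t => by
    refine ⟨⟨n⁻¹ * t * n, ?_⟩, rfl⟩
    have := (mem_normalizer_iff.1 (inv_mem hn) (t : G)).1 t.2
    rwa [inv_inv] at this
  refine ⟨MulAut.conj n • A₁, fun g => f (n⁻¹ * g * n), ?_, ?_, ?_, ?_, ?_, n * a * n⁻¹, ?_, ?_⟩
  · intro g hg
    rw [hmem] at hg ⊢
    exact h1 hg
  · intro t g hg
    obtain ⟨t', ht'⟩ := ht t
    rw [hmem] at hg ⊢
    have e : n⁻¹ * ((t : G) * g * (t : G)⁻¹) * n = (t' : G) * (n⁻¹ * g * n) * (t' : G)⁻¹ := by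
      rw [ht']; group
    rw [e]
    exact h2 t' _ hg
  · intro g hg g' hg'
    rw [hmem] at hg hg'
    have e : n⁻¹ * (g * g') * n = (n⁻¹ * g * n) * (n⁻¹ * g' * n) := by group
    change f (n⁻¹ * (g * g') * n) = _
    rw [e]
    exact h3 _ hg _ hg'
  · intro g hg hgB
    rw [hmem] at hg hgB
    exact h4 _ hg hgB
  · intro t g hg
    obtain ⟨t', ht'⟩ := ht t
    rw [hmem] at hg
    have e : n⁻¹ * ((t : G) * g * (t : G)⁻¹) * n = (t' : G) * (n⁻¹ * g * n) * (t' : G)⁻¹ := by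
      rw [ht']; group
    change f (n⁻¹ * ((t : G) * g * (t : G)⁻¹) * n) = _
    rw [e, h5 t' _ hg, hχ t' t (by rw [ht']; group)]
  · rw [hmem]
    have e : n⁻¹ * (n * a * n⁻¹) * n = a := by group
    rwa [e]
  · have e : n⁻¹ * (n * a * n⁻¹) * n = a := by group
    change f (n⁻¹ * (n * a * n⁻¹) * n) ≠ 0
    rwa [e]

end basic

/-! ### Galois classes -/

section gal

variable {T : Subgroup G} {χ ψ φ : T →* Fˣ}

theorem Gal.refl (χ : T →* Fˣ) : Gal χ χ := ⟨0, by simp⟩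

theorem Gal.trans (h : Gal χ ψ) (h' : Gal ψ φ) : Gal χ φ := by
  obtain ⟨k, rfl⟩ := h
  obtain ⟨l, rfl⟩ := h'
  exact ⟨k + l, by rw [← pow_mul, ← pow_add]⟩

theorem pow_card_pow_char [Finite F] (χ : T →* Fˣ) (k : ℕ) : χ ^ (Nat.card F) ^ k = χ := by
  have : Fintype F := Fintype.ofFinite F
  ext t
  rw [MonoidHom.pow_apply, Units.val_pow_eq_pow_val, Nat.card_eq_fintype_card, FiniteField.pow_card_pow]

theorem exists_card_eq [Finite F] [CharP F 2] : ∃ n, 1 ≤ n ∧ Nat.card F = 2 ^ n := by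
  have : Fintype F := Fintype.ofFinite F
  obtain ⟨k, -, hk⟩ := FiniteField.card F 2
  exact ⟨k, k.pos, by rw [Nat.card_eq_fintype_card, hk]⟩

theorem Gal.symm [Finite F] [CharP F 2] (h : Gal χ ψ) : Gal ψ χ := by
  obtain ⟨k, rfl⟩ := h
  obtain ⟨n, hn, hq⟩ := exists_card_eq (F := F)
  refine ⟨(n - 1) * k, ?_⟩
  rw [← pow_mul, ← pow_add]
  have e : k + (n - 1) * k = n * k := by
    obtain ⟨m, rfl⟩ : ∃ m, n = m + 1 := ⟨n - 1, by omega⟩
    rw [Nat.add_sub_cancel]; ring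
  rw [e, pow_mul, ← hq, pow_card_pow_char]

/-- Two elements of a finite field with the same minimal polynomial are conjugate under the Frobenius. -/
theorem exists_eq_pow [Finite F] [CharP F 2] [Algebra (ZMod 2) F] {x y : F}
    (h : ∀ p : Polynomial (ZMod 2), Polynomial.aeval x p = 0 → Polynomial.aeval y p = 0) :
    ∃ k : ℕ, y = x ^ 2 ^ k := by
  have : Fintype F := Fintype.ofFinite F
  have : Fact (Nat.Prime 2) := ⟨Nat.prime_two⟩
  have hint : IsIntegral (ZMod 2) x := .of_finite _ x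
  have h1 : IsConjRoot (ZMod 2) x y := isConjRoot_of_aeval_eq_zero hint (h _ (minpoly.aeval _ _))
  obtain ⟨σ, hσ⟩ := h1.symm.exists_algEquiv
  obtain ⟨k, hk⟩ := (FiniteField.bijective_frobeniusAlgHom_pow (ZMod 2) F).2 (σ : F →ₐ[ZMod 2] F)
  refine ⟨k, ?_⟩
  have h3 := DFunLike.congr_fun hk x
  simp only [AlgHom.coe_pow, FiniteField.coe_frobeniusAlgHom, pow_iterate, ZMod.card] at h3
  rw [h3, ← hσ]
  rfl

/-- **A weight of a subspace of `F(χ)` is Galois conjugate to `χ`.** -/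
theorem Emb.gal [Finite F] [CharP F 2] {A B : Subgroup G} (h : Emb T χ A B) (h' : HasWt T ψ A B) : Gal χ ψ := by
  classical
  let _ : Algebra (ZMod 2) F := ZMod.algebra F 2
  obtain ⟨g, g1, g2, g3⟩ := h
  obtain ⟨A₁, f, h1, h2, h3, h4, h5, a, ha, h6⟩ := h'
  have hone : f 1 = 0 := by
    have := h3 1 A₁.one_mem 1 A₁.one_mem
    rw [mul_one] at this
    exact left_eq_add.1 this
  have gone : g 1 = 0 := by
    have := g1 1 A.one_mem 1 A.one_mem
    rw [mul_one] at this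
    exact left_eq_add.1 this
  -- products of conjugates
  have key : ∀ (t : T) (l : List ℕ),
      (l.map fun i => ((t ^ i : T) : G) * a * ((t ^ i : T) : G)⁻¹).prod ∈ A₁ ∧
      f (l.map fun i => ((t ^ i : T) : G) * a * ((t ^ i : T) : G)⁻¹).prod =
        (l.map fun i => ((ψ t : Fˣ) : F) ^ i).sum * f a ∧
      g (l.map fun i => ((t ^ i : T) : G) * a * ((t ^ i : T) : G)⁻¹).prod =
        (l.map fun i => ((χ t : Fˣ) : F) ^ i).sum * g a := by
    intro t l
    induction l with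
    | nil => simp [A₁.one_mem, hone, gone]
    | cons i l ih =>
      obtain ⟨i1, i2, i3⟩ := ih
      simp only [List.map_cons, List.prod_cons, List.sum_cons]
      have ht := h2 (t ^ i) a ha
      refine ⟨A₁.mul_mem ht i1, ?_, ?_⟩
      · rw [h3 _ ht _ i1, i2, h5 _ _ ha, map_pow, Units.val_pow_eq_pow_val, add_mul]
      · rw [g1 _ (h1 ht) _ (h1 i1), i3, g2 _ _ (h1 ha), map_pow, Units.val_pow_eq_pow_val, add_mul]
  have hpoly : ∀ (t : T) (p : Polynomial (ZMod 2)), Polynomial.aeval ((χ t : Fˣ) : F) p = 0 →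
      Polynomial.aeval ((ψ t : Fˣ) : F) p = 0 := by
    intro t p hp
    have hs : ∀ x : F, Polynomial.aeval x p =
        ((((Finset.range (p.natDegree + 1)).filter fun i => p.coeff i ≠ 0).toList).map fun i => x ^ i).sum := by
      intro x
      rw [Finset.sum_map_toList, Polynomial.aeval_eq_sum_range, Finset.sum_filter]
      refine Finset.sum_congr rfl fun i _ => ?_
      split_ifs with hc
      · have hc1 : p.coeff i = 1 := by
          revert hc
          generalize p.coeff i = c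
          revert c
          decide
        rw [hc1, one_smul]
      · push Not at hc
        rw [hc, zero_smul]
    obtain ⟨k1, k2, k3⟩ := key t ((Finset.range (p.natDegree + 1)).filter fun i => p.coeff i ≠ 0).toList
    rw [← hs] at k2 k3
    rw [hp, zero_mul] at k3
    have h7 := h4 _ k1 (g3 _ (h1 k1) k3)
    rw [k2] at h7
    exact (mul_eq_zero.1 h7).resolve_right h6
  -- a generator of the image
  obtain ⟨⟨u, hu⟩, hgen⟩ := IsCyclic.exists_generator (α := χ.range)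
  obtain ⟨t₀, rfl⟩ := hu
  obtain ⟨k, hk⟩ := exists_eq_pow (hpoly t₀)
  refine ⟨k, ?_⟩
  ext t
  obtain ⟨m, hm⟩ := hgen ⟨χ t, ⟨t, rfl⟩⟩
  have hm' : χ t = χ t₀ ^ m := by
    have := congrArg Subtype.val hm
    exact this.symm
  have h1' : χ (t * (t₀ ^ m)⁻¹) = 1 := by
    rw [map_mul, map_inv, map_zpow, hm', mul_inv_cancel]
  have h2' : ψ (t * (t₀ ^ m)⁻¹) = 1 := by
    have h8 := hpoly (t * (t₀ ^ m)⁻¹) (Polynomial.X - 1) (by rw [h1']; simp)
    rw [map_sub, Polynomial.aeval_X, map_one, sub_eq_zero] at h8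
    exact Units.ext h8
  rw [map_mul, map_inv, mul_inv_eq_one, map_zpow] at h2'
  have hk' : ψ t₀ = χ t₀ ^ 2 ^ k := Units.ext (by rw [hk, Units.val_pow_eq_pow_val])
  rw [h2', MonoidHom.pow_apply, hm', hk', ← zpow_natCast, ← zpow_natCast, ← zpow_mul, ← zpow_mul, mul_comm]

theorem Flag.gal [Finite F] [CharP F 2] {L : List (T →* Fˣ)} {A B : Subgroup G} (h : Flag T L A B)
    (h' : HasWt T ψ A B) : ∃ χ ∈ L, Gal χ ψ := by
  induction h with
  | nil hAB => exact absurd h' (not_hasWt_of_le hAB)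
  | @cons χ L A C B hT hCA hE _ ih =>
    rcases h'.split hT with h1 | h1
    · exact ⟨χ, List.mem_cons_self, hE.gal h1⟩
    · rw [inf_eq_right.2 hCA] at h1
      obtain ⟨φ, hφ, h2⟩ := ih h1
      exact ⟨φ, List.mem_cons_of_mem _ hφ, h2⟩

end gal

/-! ### Existence of weights -/

section exist

variable {T : Subgroup G}

/-- A proper subgroup of a 2-group lies in a subgroup of index 2. -/
theorem exists_index_two {A : Type*} [Group A] [Finite A] (hA : IsPGroup 2 A) {H : Subgroup A} (hH : H ≠ ⊤) :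
    ∃ M : Subgroup A, H ≤ M ∧ M.index = 2 := by
  have : Fact (Nat.Prime 2) := ⟨Nat.prime_two⟩
  obtain ⟨m, hm⟩ := IsPGroup.iff_card.1 hA
  obtain ⟨n, hn⟩ := IsPGroup.iff_card.1 (hA.to_subgroup H)
  have hlt : n < m := by
    by_contra hcon
    push Not at hcon
    apply hH
    apply Subgroup.eq_top_of_card_eq
    have h1 := Subgroup.card_subgroup_dvd_card H
    rw [hm, hn] at h1
    have h2 := (Nat.pow_dvd_pow_iff_le_right (by norm_num)).1 h1
    rw [hm, hn, le_antisymm h2 hcon]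
  obtain ⟨m, rfl⟩ : ∃ k, m = k + 1 := ⟨m - 1, by omega⟩
  obtain ⟨K, hK, hHK⟩ := Sylow.exists_subgroup_card_pow_prime_le (G := A) 2 (m := m)
    (by rw [hm, pow_succ]; exact dvd_mul_right _ _) H hn (by omega)
  refine ⟨K, hHK, ?_⟩
  have h3 := K.index_mul_card
  rw [hK, hm, pow_succ, mul_comm] at h3
  exact Nat.eq_of_mul_eq_mul_left (by positivity) h3

/-- the operator `f ↦ f(t · t⁻¹)` -/
def tau (F : Type*) [Field F] (t : G) : (G → F) →ₗ[F] (G → F) := LinearMap.funLeft F F fun g => t * g * t⁻¹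

theorem tau_apply (t : G) (f : G → F) (g : G) : tau F t f g = f (t * g * t⁻¹) := rfl

/-- **Common eigenvectors**: `T` abelian of exponent dividing `q - 1`, `E₀` a nonzero `T`-invariant space of
functions. -/
theorem exists_eigen [Finite G] [Finite F] {E₀ : Submodule F (G → F)} (h0 : E₀ ≠ ⊥)
    (hinv : ∀ t : T, ∀ f ∈ E₀, tau F (t : G) f ∈ E₀)
    (hc : ∀ s t : T, s * t = t * s) (he : ∀ t : T, t ^ (Nat.card F - 1) = 1) :
    ∃ χ : T →* Fˣ, ∃ f ∈ E₀, f ≠ 0 ∧ ∀ (t : T) (g : G), f ((t : G) * g * (t : G)⁻¹) = (χ t : F) * f g := by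
  classical
  have : Fintype F := Fintype.ofFinite F
  have hq : 1 < Nat.card F := Finite.one_lt_card
  let τ : T → (G → F) →ₗ[F] (G → F) := fun t => tau F (t : G)
  have hτ : ∀ t f g, τ t f g = f ((t : G) * g * (t : G)⁻¹) := fun _ _ _ => rfl
  have hτc : ∀ s t f, τ s (τ t f) = τ t (τ s f) := by
    intro s t f
    funext g
    have hst : (t : G) * s = s * t := congrArg Subtype.val (hc t s)
    rw [hτ, hτ, hτ, hτ]
    congr 1
    calc (t : G) * ((s : G) * g * (s : G)⁻¹) * (t : G)⁻¹ = (t * s : G) * g * (t * s : G)⁻¹ := by group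
      _ = (s * t : G) * g * (s * t : G)⁻¹ := by rw [hst]
      _ = (s : G) * ((t : G) * g * (t : G)⁻¹) * (s : G)⁻¹ := by group
  have hτp : ∀ (t : T) (k : ℕ) f, (τ t ^ k) f = τ (t ^ k) f := by
    intro t k
    induction k with
    | zero => intro f; funext g; simp [hτ]
    | succ k ih =>
      intro f
      rw [pow_succ, Module.End.mul_apply, ih]
      funext g
      rw [hτ, hτ, hτ, pow_succ']
      congr 1
      simp only [Subgroup.coe_mul]
      group
  have hτq : ∀ (t : T) f, (τ t ^ Nat.card F) f = τ t f := by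
    intro t f
    rw [hτp]
    obtain ⟨m, hm⟩ : ∃ m, Nat.card F = m + 1 := ⟨Nat.card F - 1, by omega⟩
    have h1 := he t
    rw [hm, Nat.add_sub_cancel] at h1
    rw [hm, pow_succ, h1, one_mul]
  -- a minimal invariant subspace
  obtain ⟨E, hE, hmin⟩ := exists_minimal_of_wellFoundedLT
    (fun E : Submodule F (G → F) => E ≤ E₀ ∧ E ≠ ⊥ ∧ ∀ t, ∀ f ∈ E, τ t f ∈ E) ⟨E₀, le_rfl, h0, fun t f hf => hinv t f hf⟩
  obtain ⟨hED, hE0, hEτ⟩ := hE
  have hscal : ∀ t : T, ∃ c : F, ∀ f ∈ E, τ t f = c • f := by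
    intro t
    have : Nontrivial E := Submodule.nontrivial_iff_ne_bot.2 hE0
    let σ : E →ₗ[F] E := (τ t).restrict (hEτ t)
    have hσ : ∀ (k : ℕ) (v : E), ((σ ^ k) v : G → F) = (τ t ^ k) v := by
      intro k
      induction k with
      | zero => intro v; simp
      | succ k ih =>
        intro v
        rw [pow_succ, Module.End.mul_apply, ih, pow_succ, Module.End.mul_apply]
        rfl
    have h1 : Polynomial.aeval σ (Polynomial.X ^ Fintype.card F - Polynomial.X : Polynomial F) = 0 := by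
      rw [map_sub, map_pow, Polynomial.aeval_X, sub_eq_zero]
      ext v : 1
      apply Subtype.ext
      rw [hσ, ← Nat.card_eq_fintype_card, hτq]
      rfl
    have h2 : minpoly F σ ∣ (Polynomial.X ^ Fintype.card F - Polynomial.X : Polynomial F) := minpoly.dvd _ _ h1
    have h3 : (Polynomial.X ^ Fintype.card F - Polynomial.X : Polynomial F).Splits := by
      rw [Polynomial.splits_iff_card_roots, FiniteField.roots_X_pow_card_sub_X,
        FiniteField.X_pow_card_sub_X_natDegree_eq _ Fintype.one_lt_card]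
      rfl
    have h4 : (minpoly F σ).Splits := h3.of_dvd (FiniteField.X_pow_card_sub_X_ne_zero _ Fintype.one_lt_card) h2
    have hint : IsIntegral F σ := .of_finite _ _
    obtain ⟨c, hc0⟩ := h4.exists_eval_eq_zero (minpoly.degree_pos hint).ne'
    obtain ⟨v, hv, hv0⟩ := (Module.End.hasEigenvalue_of_isRoot (f := σ) hc0).exists_hasEigenvector
    rw [Module.End.mem_eigenspace_iff] at hv
    have hv' : τ t v = c • (v : G → F) := congrArg Subtype.val hv
    refine ⟨c, ?_⟩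
    -- the eigenspace is everything
    let E' : Submodule F (G → F) := E ⊓ LinearMap.ker (τ t - c • LinearMap.id)
    have hE'm : ∀ f, f ∈ E' ↔ f ∈ E ∧ τ t f = c • f := by
      intro f
      simp only [E', Submodule.mem_inf, LinearMap.mem_ker, LinearMap.sub_apply, LinearMap.smul_apply,
        LinearMap.id_apply, sub_eq_zero]
    have h5 : E ≤ E' := by
      refine hmin ⟨inf_le_left.trans hED, ?_, ?_⟩ inf_le_left
      · intro h
        have : (v : G → F) ∈ E' := (hE'm _).2 ⟨v.2, hv'⟩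
        rw [h, Submodule.mem_bot] at this
        exact hv0 (Subtype.ext this)
      · intro s f hf
        rw [hE'm] at hf ⊢
        refine ⟨hEτ s f hf.1, ?_⟩
        rw [hτc, hf.2, map_smul]
    intro f hf
    exact ((hE'm f).1 (h5 hf)).2
  obtain ⟨f, hfE, hf0⟩ := Submodule.exists_mem_ne_zero_of_ne_bot hE0
  choose c hc' using hscal
  have hinj : ∀ t, c t ≠ 0 := by
    intro t h
    have h1 := hτq t f
    have h2 : ∀ k, (τ t ^ (k + 1)) f = c t ^ (k + 1) • f := by
      intro k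
      induction k with
      | zero => rw [zero_add, pow_one, pow_one, hc' t f hfE]
      | succ k ih =>
        rw [pow_succ', Module.End.mul_apply, ih, map_smul, hc' t f hfE, smul_smul, ← pow_succ]
    have h3 := hτp t (Nat.card F - 1) f
    rw [he t] at h3
    have h4 : (τ t ^ (Nat.card F - 1 - 1 + 1)) f = 0 := by
      rw [h2, h, zero_pow (by omega), zero_smul]
    have h5 : τ 1 f = f := by
      funext g; simp [hτ]
    rw [h5] at h3
    rcases Nat.lt_or_ge (Nat.card F - 1) 1 with h6 | h6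
    · omega
    · rw [Nat.sub_add_cancel h6] at h4
      rw [h3] at h4
      exact hf0 h4
  have hmul : ∀ s t, c (s * t) = c s * c t := by
    intro s t
    have h1 : τ (s * t) f = τ t (τ s f) := by
      funext g
      rw [hτ, hτ, hτ]
      congr 1
      simp only [Subgroup.coe_mul]
      group
    rw [hc' _ f hfE, hc' s f hfE, map_smul, hc' t f hfE, smul_smul] at h1
    by_contra hcon
    apply hf0
    have h2 : (c (s * t) - c s * c t) • f = 0 := by rw [sub_smul, h1, sub_self]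
    exact (smul_eq_zero.1 h2).resolve_left (sub_ne_zero.2 hcon)
  have hone' : c 1 = 1 := by
    have h1 := hmul 1 1
    rw [mul_one] at h1
    have h2 : c 1 * (c 1 - 1) = 0 := by rw [mul_sub, ← h1, mul_one, sub_self]
    exact sub_eq_zero.1 ((mul_eq_zero.1 h2).resolve_left (hinj 1))
  refine ⟨{ toFun := fun t => Units.mk0 (c t) (hinj t)
            map_one' := Units.ext hone'
            map_mul' := fun s t => Units.ext (hmul s t) }, f, hED hfE, hf0, fun t g => ?_⟩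
  have := congrFun (hc' t f hfE) g
  rw [hτ] at this
  exact this

/-- **Existence of weights.** -/
theorem exists_hasWt [Finite G] [Finite F] [CharP F 2] {A B : Subgroup G} (hA : IsPGroup 2 A)
    (hTA : T ≤ normalizer (A : Set G)) (hTB : T ≤ normalizer (B : Set G)) (hAB : ¬ A ≤ B)
    (hc : ∀ s t : T, s * t = t * s) (he : ∀ t : T, t ^ (Nat.card F - 1) = 1) :
    ∃ χ : T →* Fˣ, HasWt T χ A B := by
  classical
  have c2 : ∀ x : F, x + x = 0 := CharTwo.add_self_eq_zero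
  have conjA : ∀ (t : T) (g : G), (t : G) * g * (t : G)⁻¹ ∈ A ↔ g ∈ A := fun t g =>
    (mem_normalizer_iff.1 (hTA t.2) g).symm
  have conjB : ∀ (t : T) (g : G), (t : G) * g * (t : G)⁻¹ ∈ B ↔ g ∈ B := fun t g =>
    (mem_normalizer_iff.1 (hTB t.2) g).symm
  -- the space of additive functions
  let D : Submodule F (G → F) :=
    { carrier := {f | (∀ a ∈ A, ∀ b ∈ A, f (a * b) = f a + f b) ∧ (∀ a ∈ A, a ∈ B → f a = 0) ∧
        ∀ g, g ∉ A → f g = 0}
      add_mem' := by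
        rintro f g ⟨f1, f2, f3⟩ ⟨g1, g2, g3⟩
        refine ⟨fun a ha b hb => ?_, fun a ha hb => ?_, fun a ha => ?_⟩
        · simp only [Pi.add_apply]
          rw [f1 a ha b hb, g1 a ha b hb]; ring
        · simp only [Pi.add_apply]
          rw [f2 a ha hb, g2 a ha hb, add_zero]
        · simp only [Pi.add_apply]
          rw [f3 a ha, g3 a ha, add_zero]
      zero_mem' := ⟨fun _ _ _ _ => by simp, fun _ _ _ => rfl, fun _ _ => rfl⟩
      smul_mem' := by
        rintro c f ⟨f1, f2, f3⟩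
        refine ⟨fun a ha b hb => ?_, fun a ha hb => ?_, fun a ha => ?_⟩
        · simp only [Pi.smul_apply, smul_eq_mul]
          rw [f1 a ha b hb]; ring
        · simp only [Pi.smul_apply, smul_eq_mul]
          rw [f2 a ha hb, mul_zero]
        · simp only [Pi.smul_apply, smul_eq_mul]
          rw [f3 a ha, mul_zero] }
  have hτD : ∀ t : T, ∀ f ∈ D, tau F (t : G) f ∈ D := by
    rintro t f ⟨f1, f2, f3⟩
    refine ⟨fun a ha b hb => ?_, fun a ha hb => ?_, fun a ha => ?_⟩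
    · rw [tau_apply, tau_apply, tau_apply, ← f1 _ ((conjA t a).2 ha) _ ((conjA t b).2 hb)]
      congr 1; group
    · rw [tau_apply]
      exact f2 _ ((conjA t a).2 ha) ((conjB t a).2 hb)
    · rw [tau_apply]
      exact f3 _ fun h => ha ((conjA t a).1 h)
  -- `D` is not zero
  have hD : D ≠ ⊥ := by
    have hH : B.subgroupOf A ≠ ⊤ := by
      intro h
      rw [subgroupOf_eq_top] at h
      exact hAB h
    obtain ⟨M, hM, hi⟩ := exists_index_two hA hH
    obtain ⟨a, ha⟩ : ∃ a : A, a ∉ M := by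
      by_contra hcon
      push Not at hcon
      have : M = ⊤ := eq_top_iff.2 fun x _ => hcon x
      rw [this, index_top] at hi
      omega
    let f : G → F := fun g => if h : g ∈ A then (if (⟨g, h⟩ : A) ∈ M then 0 else 1) else 0
    have hf : ∀ x : A, f x = if x ∈ M then 0 else 1 := fun x => by
      simp only [f, dif_pos x.2]
    have hfD : f ∈ D := by
      refine ⟨fun x hx y hy => ?_, fun x hx hxB => ?_, fun x hx => ?_⟩
      · have h1 := hf (⟨x, hx⟩ * ⟨y, hy⟩)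
        have h2 := hf ⟨x, hx⟩
        have h3 := hf ⟨y, hy⟩
        simp only [Subgroup.coe_mul] at h1 h2 h3
        rw [h1, h2, h3]
        have h4 := Subgroup.mul_mem_iff_of_index_two hi (a := (⟨x, hx⟩ : A)) (b := ⟨y, hy⟩)
        by_cases hx' : (⟨x, hx⟩ : A) ∈ M <;> by_cases hy' : (⟨y, hy⟩ : A) ∈ M
        · rw [if_pos (h4.2 (by simp [hx', hy'])), if_pos hx', if_pos hy', add_zero]
        · rw [if_neg (fun h => hy' ((h4.1 h).1 hx')), if_pos hx', if_neg hy', zero_add]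
        · rw [if_neg (fun h => hx' ((h4.1 h).2 hy')), if_neg hx', if_pos hy', add_zero]
        · rw [if_pos (h4.2 (by simp [hx', hy'])), if_neg hx', if_neg hy', c2]
      · have h2 := hf ⟨x, hx⟩
        simp only at h2
        rw [h2, if_pos]
        exact hM (mem_subgroupOf.2 hxB)
      · simp only [f, dif_neg hx]
    intro h
    rw [h, Submodule.mem_bot] at hfD
    have h1 := hf a
    rw [hfD, if_neg ha] at h1
    exact one_ne_zero h1.symm
  obtain ⟨χ, f, hf, hf0, hχ⟩ := exists_eigen (T := T) hD hτD hc he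
  obtain ⟨f1, f2, f3⟩ := hf
  refine ⟨χ, A, f, le_rfl, fun t a ha => (conjA t a).2 ha, f1, f2, fun t a _ => hχ t a, ?_⟩
  by_contra hcon
  push Not at hcon
  apply hf0
  funext g
  by_cases hg : g ∈ A
  · exact hcon g hg
  · exact f3 g hg

end exist

/-- Weights are closed under Galois conjugation. -/
theorem HasWt.gal [CharP F 2] {T : Subgroup G} {χ : T →* Fˣ} {A B : Subgroup G} (h : HasWt T χ A B) (k : ℕ) :
    HasWt T (χ ^ 2 ^ k) A B := by
  obtain ⟨A₁, f, h1, h2, h3, h4, h5, a, ha, h6⟩ := h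
  refine ⟨A₁, fun g => f g ^ 2 ^ k, h1, h2, ?_, ?_, ?_, a, ha, pow_ne_zero _ h6⟩
  · intro x hx y hy
    change f (x * y) ^ 2 ^ k = _
    rw [h3 x hx y hy, add_pow_char_pow]
  · intro x hx hB
    change f x ^ 2 ^ k = 0
    rw [h4 x hx hB, zero_pow (by positivity)]
  · intro t x hx
    change f _ ^ 2 ^ k = _
    rw [h5 t x hx, mul_pow, MonoidHom.pow_apply, Units.val_pow_eq_pow_val]

end Cfsg.Agent.Omega.NO3S.B3
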